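import Cfsg.Agent.ClassicalMax.SpThree.Main
import Cfsg.Agent.NotMax.TensorFrame

/-!
The stabiliser of a decomposition `Sp ⊗ O₃` of the symplectic space is maximal when the field has at least five elements.
-/

set_option autoImplicit false
set_option linter.unusedSectionVars false

namespace Cfsg.Agent.ClassicalMax.SpThree

open Module QuadraticMap Cfsg.Agent.Classical Cfsg.Agent.ClassicalMax
open Cfsg.Agent.ClassicalMax.SpTwo (pS pS_apply pS_symm pS_self q_add q_smul)
open scoped Kronecker

variable {ι : Type} [Fintype ι] [DecidableEq ι] {F : Type*} [Field F] {n₁ n₂ : ℕ}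

/-- a pair of factors gives an element of the stabiliser -/
theorem exists_of_pair (e : ι ≃ Fin n₁ × Fin n₂) (P : GL ι F) (A : GL (Fin n₁) F) (B : GL (Fin n₂) F) :
    ∃ G ∈ Cfsg.Geo.tensorProductSubgroup n₁ n₂ e P, ∀ x y, (G : Matrix ι ι F).mulVec (NotMax.pureT e P x y) =
      NotMax.pureT e P ((A : Matrix (Fin n₁) (Fin n₁) F).mulVec x) ((B : Matrix (Fin n₂) (Fin n₂) F).mulVec y) := by
  classical
  let k : GL (Fin n₁ × Fin n₂) F :=
    ⟨(A : Matrix (Fin n₁) (Fin n₁) F) ⊗ₖ (B : Matrix (Fin n₂) (Fin n₂) F),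
      ((A⁻¹ : GL (Fin n₁) F) : Matrix (Fin n₁) (Fin n₁) F) ⊗ₖ ((B⁻¹ : GL (Fin n₂) F) : Matrix (Fin n₂) (Fin n₂) F), by
      rw [← Matrix.mul_kronecker_mul, ← Units.val_mul, ← Units.val_mul, mul_inv_cancel, mul_inv_cancel, Units.val_one,
        Units.val_one, Matrix.one_kronecker_one], by
      rw [← Matrix.mul_kronecker_mul, ← Units.val_mul, ← Units.val_mul, inv_mul_cancel, inv_mul_cancel, Units.val_one,
        Units.val_one, Matrix.one_kronecker_one]⟩
  refine ⟨_, Subgroup.mem_map_of_mem _ (Subgroup.mem_map_of_mem _ (show k ∈ _ from ⟨A, B, rfl⟩)), fun x y => ?_⟩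
  have hR : ((Cfsg.Geo.glReindex e.symm k : GL ι F) : Matrix ι ι F) =
      (k : Matrix (Fin n₁ × Fin n₂) (Fin n₁ × Fin n₂) F).submatrix e e := rfl
  rw [NotMax.pureT_apply, NotMax.pureT_apply, MulEquiv.coe_toMonoidHom, MulAut.conj_apply, Units.val_mul, Units.val_mul,
    Matrix.mulVec_mulVec, Matrix.mul_assoc, ← Units.val_mul P⁻¹ P, inv_mul_cancel, Units.val_one, Matrix.mul_one,
    ← Matrix.mulVec_mulVec, MulEquiv.coe_toMonoidHom, hR]
  congr 1
  rw [Matrix.submatrix_mulVec_equiv, Function.comp_assoc, e.self_comp_symm, Function.comp_id]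
  congr 1
  funext p
  show ((A : Matrix (Fin n₁) (Fin n₁) F) ⊗ₖ (B : Matrix (Fin n₂) (Fin n₂) F)).mulVec _ p = _
  simp only [Matrix.mulVec, dotProduct, Matrix.kroneckerMap_apply, Fintype.sum_prod_type, Finset.sum_mul_sum]
  exact Finset.sum_congr rfl fun i _ => Finset.sum_congr rfl fun j _ => by ring

/-- the pure tensors span -/
theorem span_pureT (e : ι ≃ Fin n₁ × Fin n₂) (P : GL ι F) :
    Submodule.span F (Set.range fun p : (Fin n₁ → F) × (Fin n₂ → F) => NotMax.pureT e P p.1 p.2) = ⊤ := by
  classical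
  refine eq_top_iff.2 fun z _ => ?_
  have hz : z = ∑ i, ((P⁻¹ : GL ι F) : Matrix ι ι F).mulVec z i •
      NotMax.pureT e P (Pi.single (e i).1 1) (Pi.single (e i).2 1) := by
    have h1 : ∀ i, NotMax.pureT e P (Pi.single (e i).1 1) (Pi.single (e i).2 1) =
        (P : Matrix ι ι F).mulVec (Pi.single i 1) := fun i => by
      rw [NotMax.pureT_apply]
      congr 1
      funext j
      simp only [Function.comp_apply, Pi.single_apply]
      by_cases h : j = i
      · subst h; simp
      · have : ¬ ((e j).1 = (e i).1 ∧ (e j).2 = (e i).2) := fun hh => h (e.injective (Prod.ext hh.1 hh.2))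
        rw [if_neg h]
        split_ifs <;> simp_all
    simp only [h1, ← Matrix.mulVec_smul]
    rw [← Matrix.mulVec_sum, ← pi_eq_sum_univ']
    rw [Matrix.mulVec_mulVec, ← Units.val_mul, mul_inv_cancel, Units.val_one, Matrix.one_mulVec]
  rw [hz]
  exact Submodule.sum_mem _ fun i _ => Submodule.smul_mem _ _ (Submodule.subset_span ⟨(_, _), rfl⟩)

variable [Fintype F] {m k : ℕ}

/-- the stabiliser of a decomposition `Sp ⊗ O₃` is maximal -/
theorem isMaximal_tensor (hk : 0 < k) (hodd : Odd (Fintype.card F)) (hq : 5 ≤ Fintype.card F)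
    (e : (Fin m ⊕ Fin m) ≃ Fin k × Fin 3) (P : GL (Fin m ⊕ Fin m) F) (f₁ : (Fin k → F) → (Fin k → F) → F)
    (f₂ : (Fin 3 → F) → (Fin 3 → F) → F) (hf₁ : Cfsg.Geo.IsSymplecticForm f₁) (hf₂ : Cfsg.Geo.IsSymmetricForm f₂)
    (hT : Cfsg.Geo.IsTensorFormStructure id (Cfsg.sympForm m F) f₁ f₂ e P) :
    Cfsg.Geo.IsMaximalIn (Cfsg.spGL m F) (Cfsg.Geo.tensorProductSubgroup k 3 e P ⊓ Cfsg.spGL m F) := by
  classical
  have h2 : (2 : F) ≠ 0 := Ring.two_ne_zero fun h => by
    have h' := FiniteField.even_card_of_char_two h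
    obtain ⟨r, hr⟩ := hodd
    omega
  let bS : LinearMap.BilinForm F (Fin 3 → F) := LinearMap.mk₂ F f₂ hf₂.bilinear.add_left
    (fun c x y => hf₂.bilinear.smul_left c x y) hf₂.bilinear.add_right (fun c x y => hf₂.bilinear.smul_right c x y)
  set Q : QuadraticForm F (Fin 3 → F) := ((2 : F)⁻¹ • bS).toQuadraticMap with hQ
  have hpol : ∀ x y, pS Q x y = f₂ x y := fun x y => by
    rw [pS_apply, hQ, polar, LinearMap.BilinMap.toQuadraticMap_apply, LinearMap.BilinMap.toQuadraticMap_apply,
      LinearMap.BilinMap.toQuadraticMap_apply]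
    have h21 : (2 : F)⁻¹ * 2 = 1 := inv_mul_cancel₀ h2
    simp only [map_add, LinearMap.add_apply, LinearMap.smul_apply, smul_eq_mul]
    show 2⁻¹ * f₂ x x + 2⁻¹ * f₂ y x + (2⁻¹ * f₂ x y + 2⁻¹ * f₂ y y) - 2⁻¹ * f₂ x x - 2⁻¹ * f₂ y y = f₂ x y
    rw [hf₂.symm y x]
    linear_combination f₂ x y * h21
  have hnd : (polarBilin Q).Nondegenerate := by
    constructor
    · intro v hv
      by_contra hne
      obtain ⟨x, hx⟩ := (hf₂.nondegenerate v hne).2
      exact hx ((hpol v x).symm.trans (hv x))
    · intro v hv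
      by_contra hne
      obtain ⟨x, hx⟩ := (hf₂.nondegenerate v hne).1
      exact hx ((hpol x v).symm.trans (hv x))
  obtain ⟨c, hc, hform⟩ := NotMax.form_pureT id (fun _ _ => rfl) hT
    (NotMax.formOfGram_bilinear id hf₁.bilinear.add_left hf₁.bilinear.smul_left hf₁.bilinear.add_right
      fun c v x => hf₁.bilinear.smul_right c v x)
    (NotMax.formOfGram_bilinear id hf₂.bilinear.add_left hf₂.bilinear.smul_left hf₂.bilinear.add_right
      fun c v x => hf₂.bilinear.smul_right c v x)
  let ω : LinearMap.BilinForm F (Fin k → F) := LinearMap.mk₂ F (fun x y => c * f₁ x y)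
    (fun x x' y => by simp only [hf₁.bilinear.add_left]; ring) (fun d x y => by simp only [hf₁.bilinear.smul_left, smul_eq_mul]; ring)
    (fun x y y' => by simp only [hf₁.bilinear.add_right]; ring) (fun d x y => by simp only [hf₁.bilinear.smul_right, smul_eq_mul]; ring)
  have hωv : ∀ x y, ω x y = c * f₁ x y := fun x y => rfl
  have walt : ω.IsAlt := fun x => by rw [hωv, hf₁.alternating, mul_zero]
  have wnd : ω.Nondegenerate := by
    constructor
    · intro v hv
      by_contra hne
      obtain ⟨x, hx⟩ := (hf₁.nondegenerate v hne).2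
      exact hx ((mul_eq_zero.1 (hv x)).resolve_left hc)
    · intro v hv
      by_contra hne
      obtain ⟨x, hx⟩ := (hf₁.nondegenerate v hne).1
      exact hx ((mul_eq_zero.1 (hv x)).resolve_left hc)
  set T := NotMax.pureT e P with hTd
  have form : ∀ u w u' w', sympB m F (T u w) (T u' w') = ω u u' * pS Q w w' := fun u w u' w' => by
    rw [sympB_apply, hform, hωv, hpol, mul_assoc]
  set hA := sympB_isAlt (F := F) (m := m)
  have mk : ∀ (σ : (Fin k → F) ≃ₗ[F] (Fin k → F)) (τ : (Fin 3 → F) ≃ₗ[F] (Fin 3 → F))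
      (g : (Fin m ⊕ Fin m → F) ≃ₗ[F] (Fin m ⊕ Fin m → F)), (∀ u w, g (T u w) = T (σ u) (τ w)) →
      (glEquiv (Fin m ⊕ Fin m) F).symm g ∈ Cfsg.Geo.tensorProductSubgroup k 3 e P := by
    intro σ τ g hg
    obtain ⟨G, hG, hGe⟩ := exists_of_pair e P ((glEquiv (Fin k) F).symm σ) ((glEquiv (Fin 3) F).symm τ)
    convert hG
    refine (MulEquiv.symm_apply_eq _).2 (LinearEquiv.toLinearMap_injective (LinearMap.ext_on (span_pureT e P) ?_))
    rintro _ ⟨p, rfl⟩
    show g (T p.1 p.2) = _
    rw [hg, LinearEquiv.coe_coe, glEquiv_apply, hGe, symm_mulVec, symm_mulVec]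
  refine isMaximalIn_spGL _ ?_ fun M hM ⟨g, hgM, hgi, hgK⟩ => ?_
  · -- some transvection is outside
    obtain ⟨s, hs, hQs⟩ := Quad.exists_singular Q (by rw [Module.finrank_fintype_fun_eq_card, Fintype.card_fin])
    obtain ⟨w, -, hw⟩ := Quad.exists_perp hnd (S := ⊥) (x := s) (by simpa using hs)
    have hsw : pS Q s w = 1 := hw
    set t := w + (-Q w) • s with ht
    have hst : pS Q s t = 1 := by rw [ht, map_add, map_smul, pS_self, hQs, mul_zero, smul_zero, add_zero, hsw]
    set u : Fin k → F := Pi.single ⟨0, hk⟩ 1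
    have hu : u ≠ 0 := fun h => by simpa [u] using congrFun h ⟨0, hk⟩
    obtain ⟨y, hy⟩ := not_forall.1 fun h => hu (wnd.1 u h)
    set u' := (ω u y)⁻¹ • y
    have huu : ω u u' = 1 := by rw [map_smul, smul_eq_mul, inv_mul_cancel₀ hy]
    clear_value u'
    refine ⟨T u s, 1, fun hm => ?_⟩
    obtain ⟨A, B, hAB⟩ := NotMax.exists_pair e P hm
    have h1 := hAB u' t
    rw [symm_mulVec, ← hTd, Alt.tv_apply] at h1
    set p := (A : Matrix (Fin k) (Fin k) F).mulVec u'
    set q := (B : Matrix (Fin 3) (Fin 3) F).mulVec t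
    have hval : ∀ (v : Fin k → F) (z : Fin 3 → F),
        ω v u' * pS Q z t + ω u' u * pS Q t s * (ω v u * pS Q z s) = ω v p * pS Q z q := fun v z => by
      have := congrArg (sympB m F (T v z)) h1
      rw [map_add, map_smul, one_mul, form, form, form, form, smul_eq_mul] at this
      exact this
    have hts : pS Q t s = 1 := (pS_symm _ _).trans hst
    have hu'u : ω u' u = -1 := by rw [Alt.neg' walt u u', huu]
    have hss : pS Q s s = 0 := by rw [pS_self, hQs, mul_zero]
    have h00 : pS Q t t = 0 := by rw [pS_self, ht, q_add, q_smul, hQs, map_smul, pS_symm, hsw, smul_eq_mul]; ring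
    have k1 := hval u s
    have k2 := hval u' t
    have k3 := hval u t
    have k4 := hval u' s
    simp only [hts, hu'u, hst, hss, h00, huu, walt u, walt u', mul_zero, zero_mul, add_zero, zero_add, one_mul, mul_one,
      mul_neg, neg_neg] at k1 k2 k3 k4
    rcases mul_eq_zero.1 k3.symm with h | h
    · rw [h, zero_mul] at k1
      exact one_ne_zero k1
    · rw [h, mul_zero] at k2
      exact one_ne_zero k2
  · set X := M ⊓ Alt.isoGroup (sympB m F) with hX
    have hO : Over Q ω (sympB m F) T X := by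
      refine ⟨h2, by rwa [Nat.card_eq_fintype_card], hnd, by rw [Module.finrank_fintype_fun_eq_card, Fintype.card_fin], walt, wnd,
        hA, sympB_nondeg, form, span_pureT e P, fun g hg => hg.2, fun h hh => ?_, fun τ hτ => ?_⟩
      · obtain ⟨G, hG, hGe⟩ := exists_of_pair e P ((glEquiv (Fin k) F).symm h) 1
        have hG' : ∀ u w, glEquiv (Fin m ⊕ Fin m) F G (T u w) = T (h u) w := fun u w => by
          rw [glEquiv_apply, hGe, symm_mulVec, Units.val_one, Matrix.one_mulVec]
        have hi : glEquiv (Fin m ⊕ Fin m) F G ∈ Alt.isoGroup (sympB m F) := by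
          intro x y
          have hx : x ∈ Submodule.span F (Set.range fun p : (Fin k → F) × (Fin 3 → F) => T p.1 p.2) :=
            span_pureT e P ▸ Submodule.mem_top
          induction hx using Submodule.span_induction with
          | zero => simp
          | add a b _ _ iha ihb => simp only [map_add, LinearMap.add_apply, iha, ihb]
          | smul d a _ iha => simp only [map_smul, LinearMap.smul_apply, iha]
          | mem a ha =>
            obtain ⟨p, rfl⟩ := ha
            have hy : y ∈ Submodule.span F (Set.range fun p : (Fin k → F) × (Fin 3 → F) => T p.1 p.2) :=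
              span_pureT e P ▸ Submodule.mem_top
            induction hy using Submodule.span_induction with
            | zero => simp
            | add a b _ _ iha ihb => simp only [map_add, iha, ihb]
            | smul d a _ iha => simp only [map_smul, iha]
            | mem b hb =>
              obtain ⟨r, rfl⟩ := hb
              simp only [hG', form, hh p.1 r.1]
        exact ⟨_, ⟨hM _ hi (by rwa [MulEquiv.symm_apply_apply]), hi⟩, hG'⟩
      · obtain ⟨G, hG, hGe⟩ := exists_of_pair e P 1 ((glEquiv (Fin 3) F).symm τ)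
        have hG' : ∀ u w, glEquiv (Fin m ⊕ Fin m) F G (T u w) = T u (τ w) := fun u w => by
          rw [glEquiv_apply, hGe, symm_mulVec, Units.val_one, Matrix.one_mulVec]
        have hi : glEquiv (Fin m ⊕ Fin m) F G ∈ Alt.isoGroup (sympB m F) := by
          intro x y
          have hx : x ∈ Submodule.span F (Set.range fun p : (Fin k → F) × (Fin 3 → F) => T p.1 p.2) :=
            span_pureT e P ▸ Submodule.mem_top
          induction hx using Submodule.span_induction with
          | zero => simp
          | add a b _ _ iha ihb => simp only [map_add, LinearMap.add_apply, iha, ihb]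
          | smul d a _ iha => simp only [map_smul, LinearMap.smul_apply, iha]
          | mem a ha =>
            obtain ⟨p, rfl⟩ := ha
            have hy : y ∈ Submodule.span F (Set.range fun p : (Fin k → F) × (Fin 3 → F) => T p.1 p.2) :=
              span_pureT e P ▸ Submodule.mem_top
            induction hy using Submodule.span_induction with
            | zero => simp
            | add a b _ _ iha ihb => simp only [map_add, iha, ihb]
            | smul d a _ iha => simp only [map_smul, iha]
            | mem b hb =>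
              obtain ⟨r, rfl⟩ := hb
              simp only [hG', form, pS_apply, Quad.polar_eq_of_mem hτ]
        exact ⟨_, ⟨hM _ hi (by rwa [MulEquiv.symm_apply_apply]), hi⟩, hG'⟩
    intro v c'
    refine ((?_ : ∀ z, z ∈ centres hA X) v c').1
    by_contra hD
    obtain ⟨σ, τ, hg⟩ := hO.inT (g := g) ⟨hgM, hgi⟩ hD
    obtain ⟨w₁, hw₁⟩ : ∃ w : Fin 3 → F, τ w ≠ 0 := by
      by_contra! h
      have h0 : g (T (Pi.single ⟨0, hk⟩ 1) (Pi.single 0 1)) = 0 := by rw [hg, h, map_zero]
      have := (hO.iota_eq_zero (g.map_eq_zero_iff.1 h0)).elim (fun h => congrFun h ⟨0, hk⟩) (fun h => absurd (congrFun h 0) (by simp))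
      simp at this
    have hσ : Function.Injective σ := (injective_iff_map_eq_zero σ).2 fun x hx => by
      have h0 : g (T x w₁) = 0 := by rw [hg, hx, map_zero, LinearMap.zero_apply]
      exact (hO.iota_eq_zero (g.map_eq_zero_iff.1 h0)).resolve_right fun h => hw₁ (by rw [h, map_zero])
    have hτ : Function.Injective τ := (injective_iff_map_eq_zero τ).2 fun x hx => by
      have h0 : g (T (Pi.single ⟨0, hk⟩ 1) x) = 0 := by rw [hg, hx, map_zero]
      refine (hO.iota_eq_zero (g.map_eq_zero_iff.1 h0)).resolve_left fun h => ?_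
      simpa using congrFun h ⟨0, hk⟩
    exact hgK (mk (LinearEquiv.ofInjectiveEndo σ hσ) (LinearEquiv.ofInjectiveEndo τ hτ) g hg)

end Cfsg.Agent.ClassicalMax.SpThree
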