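import Cfsg.Agent.ClassicalMax.SpTwo.ThreeBasic
import Cfsg.Agent.ClassicalMax.Subfield.Sympl
import Cfsg.Agent.Classical.QuadClass
import Cfsg.Agent.Classical.QuadDecomp

/-!
Overgroups of `Sp(U) ⊗ O(W)` for a three-dimensional orthogonal factor: the set-up, and the step from a unipotent element
of the shape `z ↦ z + v ⊗ M(π_v z)` with `M` not scalar to all transvections.
-/

set_option autoImplicit false
set_option linter.unusedSectionVars false

namespace Cfsg.Agent.ClassicalMax.SpThree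

open Module QuadraticMap Cfsg.Agent.Classical Cfsg.Agent.ClassicalMax
open Cfsg.Agent.ClassicalMax.SpTwo (pS pS_apply pS_symm pS_self q_add q_smul)

variable {F U W V : Type*} [Field F] [Finite F] [AddCommGroup U] [Module F U] [FiniteDimensional F U]
  [AddCommGroup W] [Module F W] [FiniteDimensional F W] [AddCommGroup V] [Module F V] [FiniteDimensional F V]
  {Q : QuadraticForm F W} {ω : LinearMap.BilinForm F U} {B : LinearMap.BilinForm F V}
  {ι : U →ₗ[F] W →ₗ[F] V} {X : Subgroup (V ≃ₗ[F] V)}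

/-- the standing hypotheses -/
structure Over (Q : QuadraticForm F W) (ω : LinearMap.BilinForm F U) (B : LinearMap.BilinForm F V)
    (ι : U →ₗ[F] W →ₗ[F] V) (X : Subgroup (V ≃ₗ[F] V)) : Prop where
  two : (2 : F) ≠ 0
  card : 5 ≤ Nat.card F
  nd : (polarBilin Q).Nondegenerate
  dim : finrank F W = 3
  walt : ω.IsAlt
  wnd : ω.Nondegenerate
  alt : B.IsAlt
  bnd : B.Nondegenerate
  form : ∀ u w u' w', B (ι u w) (ι u' w') = ω u u' * pS Q w w'
  span : Submodule.span F (Set.range fun p : U × W => ι p.1 p.2) = ⊤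
  iso : ∀ g ∈ X, g ∈ Alt.isoGroup B
  sp_mem : ∀ h ∈ Alt.isoGroup ω, ∃ x ∈ X, ∀ u w, x (ι u w) = ι (h u) w
  o_mem : ∀ k ∈ Quad.oG Q, ∃ x ∈ X, ∀ u w, x (ι u w) = ι u (k w)

/-- the symmetric product of two vectors as an operator -/
noncomputable def dy (Q : QuadraticForm F W) (a b : W) : W →ₗ[F] W :=
  (pS Q a).smulRight b + (pS Q b).smulRight a

theorem dy_apply (a b x : W) : dy Q a b x = pS Q a x • b + pS Q b x • a := rfl

theorem dy_add_right (a b b' : W) : dy Q a (b + b') = dy Q a b + dy Q a b' :=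
  LinearMap.ext fun x => by simp [dy_apply, add_smul, smul_add]; abel

theorem dy_smul_right (a b : W) (c : F) : dy Q a (c • b) = c • dy Q a b :=
  LinearMap.ext fun x => by simp [dy_apply, smul_smul]; module

theorem dy_comm (a b : W) : dy Q a b = dy Q b a :=
  LinearMap.ext fun x => by simp [dy_apply, add_comm]

namespace Over

theorem wext (hO : Over Q ω B ι X) {a b : W} (h : ∀ w, pS Q w a = pS Q w b) : a = b :=
  sub_eq_zero.1 (hO.nd.2 _ fun w => by
    show pS Q w (a - b) = 0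
    rw [map_sub, h w, sub_self])

theorem vext (hO : Over Q ω B ι X) {a b : V} (h : ∀ u w, B (ι u w) a = B (ι u w) b) : a = b := by
  refine sub_eq_zero.1 (hO.bnd.2 _ fun z => ?_)
  have hle : (⊤ : Submodule F V) ≤ LinearMap.ker (B.flip (a - b)) := by
    rw [← hO.span, Submodule.span_le]
    rintro _ ⟨p, rfl⟩
    simp [h]
  exact hle (Submodule.mem_top (x := z))

theorem map_ext (hO : Over Q ω B ι X) {f f' : V →ₗ[F] V} (h : ∀ u w, f (ι u w) = f' (ι u w)) : f = f' :=
  LinearMap.ext_on hO.span (by rintro _ ⟨p, rfl⟩; exact h p.1 p.2)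

/-- the component of a vector at `v` -/
noncomputable def pi (hO : Over Q ω B ι X) (v : U) : V →ₗ[F] W :=
  (LinearMap.BilinForm.toDual (polarBilin Q) hO.nd).symm.toLinearMap ∘ₗ (B ∘ₗ ι v).flip

theorem pS_pi (hO : Over Q ω B ι X) (v : U) (z : V) (w : W) : pS Q w (hO.pi v z) = B (ι v w) z := by
  rw [pS_symm]
  exact LinearMap.BilinForm.apply_toDual_symm_apply (B := polarBilin Q) (hB := hO.nd) ((B ∘ₗ ι v).flip z) w

theorem pi_iota (hO : Over Q ω B ι X) (v u : U) (w : W) : hO.pi v (ι u w) = ω v u • w :=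
  hO.wext fun a => by rw [hO.pS_pi, hO.form, map_smul, smul_eq_mul]

theorem pi_iota_self (hO : Over Q ω B ι X) (v : U) (w : W) : hO.pi v (ι v w) = 0 := by
  rw [hO.pi_iota, hO.walt v, zero_smul]

theorem pi_smul (hO : Over Q ω B ι X) (c : F) (v : U) (z : V) : hO.pi (c • v) z = c • hO.pi v z :=
  hO.wext fun a => by rw [map_smul, hO.pS_pi, hO.pS_pi]; simp

theorem pi_add (hO : Over Q ω B ι X) (v v' : U) (z : V) : hO.pi (v + v') z = hO.pi v z + hO.pi v' z :=
  hO.wext fun a => by rw [map_add, hO.pS_pi, hO.pS_pi, hO.pS_pi]; simp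

/-- the unipotent element of `v` and `M` is in the group -/
def Mem (hO : Over Q ω B ι X) (v : U) (M : W →ₗ[F] W) : Prop :=
  ∃ x ∈ X, ∀ z, x z = z + ι v (M (hO.pi v z))

theorem mem_add (hO : Over Q ω B ι X) {v : U} {M M' : W →ₗ[F] W} (h : hO.Mem v M) (h' : hO.Mem v M') :
    hO.Mem v (M + M') := by
  obtain ⟨x, hx, hxe⟩ := h
  obtain ⟨y, hy, hye⟩ := h'
  refine ⟨x * y, mul_mem hx hy, fun z => ?_⟩
  rw [LinearEquiv.mul_apply, hye, hxe, map_add (hO.pi v), hO.pi_iota_self, add_zero, LinearMap.add_apply, map_add]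
  abel

theorem mem_neg (hO : Over Q ω B ι X) {v : U} {M : W →ₗ[F] W} (h : hO.Mem v M) : hO.Mem v (-M) := by
  obtain ⟨x, hx, hxe⟩ := h
  refine ⟨x⁻¹, inv_mem hx, fun z => x.injective ?_⟩
  rw [show x (x⁻¹ z) = z from x.apply_symm_apply z, hxe, map_add (hO.pi v), hO.pi_iota_self, add_zero,
    LinearMap.neg_apply, map_neg]
  abel

theorem mem_zero (hO : Over Q ω B ι X) (v : U) : hO.Mem v 0 := ⟨1, one_mem X, fun z => by simp⟩

theorem mem_id (hO : Over Q ω B ι X) (v : U) (c : F) : hO.Mem v (c • LinearMap.id) := by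
  obtain ⟨x, hx, hxe⟩ := hO.sp_mem _ (Alt.tv_mem_isoGroup hO.walt v (-c))
  refine ⟨x, hx, fun z => ?_⟩
  have := LinearMap.congr_fun (hO.map_ext (f := x.toLinearMap)
    (f' := LinearMap.id + ι v ∘ₗ (c • LinearMap.id) ∘ₗ hO.pi v) fun u w => by
      simp only [LinearEquiv.coe_coe, hxe, Alt.tv_apply, LinearMap.add_apply, LinearMap.id_apply, LinearMap.comp_apply,
        LinearMap.smul_apply, hO.pi_iota, map_add, map_smul, Alt.neg' hO.walt u v]
      module) z
  simpa using this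

/-- transport by an element mapping one line of the first factor to another -/
theorem mem_conj (hO : Over Q ω B ι X) {g : V ≃ₗ[F] V} (hg : g ∈ X) {v v' : U} {δ δ' : W →ₗ[F] W}
    (hgv : ∀ w, g (ι v w) = ι v' (δ w)) (hadj : ∀ a b, pS Q (δ a) b = pS Q a (δ' b)) {M : W →ₗ[F] W}
    (h : hO.Mem v M) : hO.Mem v' (δ ∘ₗ M ∘ₗ δ') := by
  obtain ⟨x, hx, hxe⟩ := h
  refine ⟨g * x * g⁻¹, mul_mem (mul_mem hg hx) (inv_mem hg), fun z => ?_⟩
  have e : hO.pi v (g⁻¹ z) = δ' (hO.pi v' z) := hO.wext fun w => by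
    rw [hO.pS_pi, ← hadj, hO.pS_pi, ← hgv]
    conv_rhs => rw [← Alt.apply_inv_self g z]
    exact ((hO.iso g hg) _ _).symm
  rw [LinearEquiv.mul_apply, LinearEquiv.mul_apply, hxe, map_add, hgv, e, Alt.apply_inv_self]
  rfl

theorem mem_sp (hO : Over Q ω B ι X) {h : U ≃ₗ[F] U} (hh : h ∈ Alt.isoGroup ω) {v : U} {M : W →ₗ[F] W}
    (hm : hO.Mem v M) : hO.Mem (h v) M := by
  obtain ⟨x, hx, hxe⟩ := hO.sp_mem h hh
  have := hO.mem_conj hx (δ := LinearMap.id) (δ' := LinearMap.id) (fun w => hxe v w) (fun a b => rfl) hm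
  simpa using this

theorem mem_o (hO : Over Q ω B ι X) {k : W ≃ₗ[F] W} (hk : k ∈ Quad.oG Q) {v : U} {M : W →ₗ[F] W}
    (hm : hO.Mem v M) : hO.Mem v (k.toLinearMap ∘ₗ M ∘ₗ k.symm.toLinearMap) := by
  obtain ⟨x, hx, hxe⟩ := hO.o_mem k hk
  refine hO.mem_conj hx (fun w => hxe v w) (fun a b => ?_) hm
  show pS Q (k a) b = pS Q a (k.symm b)
  conv_lhs => rw [← k.apply_symm_apply b]
  exact Quad.polar_eq_of_mem hk a (k.symm b)

theorem mem_dy_map (hO : Over Q ω B ι X) {k : W ≃ₗ[F] W} (hk : k ∈ Quad.oG Q) {v : U} {a b : W}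
    (hm : hO.Mem v (dy Q a b)) : hO.Mem v (dy Q (k a) (k b)) := by
  have := hO.mem_o hk hm
  convert this using 1
  refine LinearMap.ext fun x => ?_
  have e : ∀ c, pS Q c (k.symm x) = pS Q (k c) x := fun c => by
    conv_rhs => rw [← k.apply_symm_apply x]
    exact (Quad.polar_eq_of_mem hk c (k.symm x)).symm
  simp [dy_apply, e]

theorem mem_smul (hO : Over Q ω B ι X) {v : U} {M : W →ₗ[F] W} (hm : hO.Mem v M) (c : F) : hO.Mem v (c • M) := by
  rcases eq_or_ne v 0 with rfl | hv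
  · exact ⟨1, one_mem X, fun z => by simp⟩
  have hsq : ∀ a : F, hO.Mem v ((a * a) • M) := fun a => by
    rcases eq_or_ne a 0 with rfl | ha
    · rw [mul_zero, zero_smul]; exact hO.mem_zero v
    obtain ⟨⟨h, hh⟩, hhv⟩ := Alt.exists_iso_map hO.walt hO.wnd hv (smul_ne_zero ha hv)
    replace hhv : h v = a • v := hhv
    obtain ⟨x, hx, hxe⟩ := hO.mem_sp hh hm
    refine ⟨x, hx, fun z => ?_⟩
    rw [hxe, hhv, hO.pi_smul, map_smul M, map_smul ι, LinearMap.smul_apply, map_smul (ι v), smul_smul,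
      LinearMap.smul_apply, map_smul (ι v)]
  rcases eq_or_ne c 0 with rfl | hc
  · rw [zero_smul]; exact hO.mem_zero v
  have : Fintype F := Fintype.ofFinite F
  obtain ⟨x, y, hxy⟩ := Quad.exists_binary_one hO.two (inv_ne_zero hc) (inv_ne_zero hc)
  have e : c = x * x + y * y := by field_simp at hxy; linear_combination -hxy
  rw [e, add_smul]
  exact hO.mem_add (hsq x) (hsq y)

end Over

end Cfsg.Agent.ClassicalMax.SpThree
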