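import Cfsg.Agent.ClassicalMax.SpThree.Word

/-!
An element of an overgroup of `Sp(U) ⊗ O₃` which does not give all transvections preserves the decomposition.
-/

set_option autoImplicit false
set_option linter.unusedSectionVars false

namespace Cfsg.Agent.ClassicalMax.SpThree

open Module QuadraticMap Cfsg.Agent.Classical Cfsg.Agent.ClassicalMax
open Cfsg.Agent.ClassicalMax.SpTwo (pS pS_apply pS_symm pS_self q_add q_smul)

variable {F U W V : Type*} [Field F] [Finite F] [AddCommGroup U] [Module F U] [FiniteDimensional F U]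
  [AddCommGroup W] [Module F W] [FiniteDimensional F W] [AddCommGroup V] [Module F V] [FiniteDimensional F V]
  {Q : QuadraticForm F W} {ω : LinearMap.BilinForm F U} {B : LinearMap.BilinForm F V}
  {ι : U →ₗ[F] W →ₗ[F] V} {X : Subgroup (V ≃ₗ[F] V)}

namespace Over

/-- a functional separating one vector from another -/
theorem exists_sep (hO : Over Q ω B ι X) {a b : U} (h : a ∉ Submodule.span F {b}) :
    ∃ v, ω v a = 1 ∧ ω v b = 0 := by
  obtain ⟨φ, hφ, hle⟩ := (Submodule.span F {b}).exists_le_ker_of_notMem h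
  obtain ⟨y, -, hy⟩ := Alt.exists_repr hO.walt (Alt.ndon_top hO.wnd) (-((φ a)⁻¹ • φ))
  refine ⟨y, ?_, ?_⟩
  · rw [Alt.neg' hO.walt a y, hy a trivial, LinearMap.neg_apply, LinearMap.smul_apply, smul_eq_mul, inv_mul_cancel₀ hφ,
      neg_neg]
  · rw [Alt.neg' hO.walt b y, hy b trivial, LinearMap.neg_apply, LinearMap.smul_apply,
      LinearMap.mem_ker.1 (hle (Submodule.mem_span_singleton_self b)), smul_zero, neg_zero, neg_zero]

theorem iota_eq_zero (hO : Over Q ω B ι X) {u : U} {w : W} (h : ι u w = 0) : u = 0 ∨ w = 0 := by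
  by_contra! hc
  obtain ⟨y, hy⟩ := not_forall.1 fun hh => hc.1 (hO.wnd.1 u hh)
  have := congrArg (hO.pi y) h
  rw [hO.pi_iota, map_zero, Alt.neg' hO.walt u y, smul_eq_zero, neg_eq_zero] at this
  exact this.elim hy hc.2

/-- on one line of the first factor an element is a pure tensor map -/
theorem pure_line (hO : Over Q ω B ι X) {g : V ≃ₗ[F] V} (hg : g ∈ X) (hD : ¬ ∀ z, z ∈ centres hO.alt X) {u : U}
    (hu : u ≠ 0) : ∃ (u' : U) (T : W →ₗ[F] W), u' ≠ 0 ∧ (∀ a, T a = 0 → a = 0) ∧ ∀ a, g (ι u a) = ι u' (T a) := by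
  classical
  have two := hO.two
  have hcases : ∀ v, hO.cmap g u v = 0 ∨
      ∃ l : F, l ≠ 0 ∧ ∀ a b, pS Q (hO.cmap g u v a) (hO.cmap g u v b) = l * pS Q a b := by
    intro v
    rcases eq_or_ne v 0 with rfl | hv
    · left
      exact LinearMap.ext fun w => by rw [hO.cmap_apply]; simp
    by_cases hc : hO.cmap g u v = 0
    · exact Or.inl hc
    right
    obtain ⟨c, hc'⟩ : ∃ c : F, hO.amap g u v ∘ₗ hO.cmap g u v = c • LinearMap.id := by
      by_contra! h
      exact hD (hO.done_of_nonscalar hg hv h)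
    rcases eq_or_ne c 0 with rfl | hc0
    · rw [zero_smul] at hc'
      exact absurd (hO.done_of_null hg hu hv hc' hc) hD
    refine ⟨-c, neg_ne_zero.2 hc0, fun a b => ?_⟩
    have h := hO.pS_nmap hg u v b a
    rw [show hO.amap g u v (hO.cmap g u v b) = c • b from LinearMap.congr_fun hc' b, map_smul, LinearMap.smul_apply,
      smul_eq_mul, pS_symm b a] at h
    linear_combination h
  have hadd : ∀ (v v' : U) (c : F) a, hO.cmap g u (v + c • v') a = hO.cmap g u v a + c • hO.cmap g u v' a := by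
    intro v v' c a
    simp [hO.cmap_apply]
  have hw : ∃ w : W, w ≠ 0 := by
    have : Nontrivial W := Module.nontrivial_of_finrank_pos (R := F) (by rw [hO.dim]; norm_num)
    exact exists_ne 0
  obtain ⟨v₁, hv₁⟩ : ∃ v, hO.cmap g u v ≠ 0 := by
    by_contra! h
    obtain ⟨w, hw⟩ := hw
    have h1 : g (ι u w) = 0 := hO.vext fun v a => by
      rw [map_zero, Alt.neg' hO.alt (g (ι u w)) (ι v a), ← hO.pS_cmap hg, h v, LinearMap.zero_apply, map_zero, neg_zero]
    exact (hO.iota_eq_zero (g.map_eq_zero_iff.1 h1)).elim hu hw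
  obtain ⟨l₁, hl₁, hsim⟩ := (hcases v₁).resolve_left hv₁
  set C₁ := hO.cmap g u v₁
  have hinj : ∀ a, C₁ a = 0 → a = 0 := fun a ha => hO.wext fun b => by
    have h := hsim a b
    rw [ha, map_zero, LinearMap.zero_apply, eq_comm, mul_eq_zero, or_iff_right hl₁] at h
    rw [pS_symm b a, h, map_zero]
  -- every pairing is a multiple of the first
  have hprop : ∀ v, ∃ c : F, ∀ a, hO.cmap g u v a = c • C₁ a := by
    intro v
    rcases hcases v with h | ⟨l₂, hl₂, hsim₂⟩
    · exact ⟨0, fun a => by rw [h, zero_smul, LinearMap.zero_apply]⟩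
    set C₂ := hO.cmap g u v
    obtain ⟨μ, hμ⟩ : ∃ μ : F, ∀ a b, pS Q (C₁ a) (C₂ b) + pS Q (C₂ a) (C₁ b) = μ * pS Q a b := by
      have hexp : ∀ a b, pS Q (hO.cmap g u (v + (1 : F) • v₁) a) (hO.cmap g u (v + (1 : F) • v₁) b) =
          (l₁ + l₂) * pS Q a b + (pS Q (C₁ a) (C₂ b) + pS Q (C₂ a) (C₁ b)) := fun a b => by
        simp only [hadd]
        simp only [one_smul, map_add, LinearMap.add_apply, hsim₂ a b, hsim a b, C₁, C₂]
        ring
      rcases hcases (v + (1 : F) • v₁) with h | ⟨l, -, h⟩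
      · exact ⟨-(l₁ + l₂), fun a b => by
          have := hexp a b
          rw [h] at this
          simp at this
          linear_combination -this⟩
      · exact ⟨l - (l₁ + l₂), fun a b => by linear_combination h a b - hexp a b⟩
    set c := μ / (2 * l₁) with hc
    refine ⟨c, fun a₀ => ?_⟩
    have h0 : ∀ a, hO.cmap g u (v + (-c) • v₁) a = C₂ a - c • C₁ a := fun a => by rw [hadd, neg_smul, sub_eq_add_neg]
    by_contra hne
    rcases hcases (v + (-c) • v₁) with h | ⟨l, hl, hsim₀⟩
    · exact hne (sub_eq_zero.1 (by rw [← h0, h, LinearMap.zero_apply]))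
    -- a skew similitude of a three-dimensional space
    set K := hO.cmap g u (v + (-c) • v₁)
    have hskew : ∀ a b, pS Q (C₁ a) (K b) + pS Q (K a) (C₁ b) = 0 := fun a b => by
      rw [h0, h0]
      simp only [map_sub, map_smul, LinearMap.sub_apply, LinearMap.smul_apply, smul_eq_mul, hsim a b, hc]
      field_simp
      linear_combination 2 * hμ a b
    have hskew' : ∀ a b, pS Q (C₁ a) (K b) = -pS Q (K a) (C₁ b) := fun a b => by linear_combination hskew a b
    have hsurj : Function.Surjective C₁ := LinearMap.surjective_of_injective ((injective_iff_map_eq_zero C₁).2 hinj)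
    obtain ⟨s, hs, hQs⟩ := hO.exists_singular
    obtain ⟨t, hst, hQt⟩ := hO.exists_partner hs hQs
    set a := s + t with ha_def
    set b := s - t with hb_def
    have ha : Q a ≠ 0 := by simp [ha_def, q_add, hQs, hQt, hst]
    have hb : Q b ≠ 0 := by simp [hb_def, sub_eq_add_neg, q_add, QuadraticMap.map_neg, hQs, hQt, hst]
    have hab : pS Q a b = 0 := by simp [ha_def, hb_def, pS_self, hQs, hQt, hst, pS_symm t s]
    obtain ⟨e, he0, hae, hbe⟩ := hO.exists_perp_two a b
    have he := hO.third_ne ha hb hab he0 hae hbe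
    have hes : pS Q s e = 0 ∧ pS Q t e = 0 := by
      simp only [ha_def, hb_def, map_add, map_sub, LinearMap.add_apply, LinearMap.sub_apply] at hae hbe
      constructor <;> refine mul_left_cancel₀ two ?_
      · linear_combination hae + hbe
      · linear_combination hae - hbe
    -- J := C₁⁻¹ K
    have hJ : ∀ a, ∃ a', C₁ a' = K a := fun a => hsurj _
    choose J hJe using hJ
    have hJskew : ∀ a b, pS Q a (J b) = -pS Q (J a) b := fun x y => mul_left_cancel₀ hl₁ (by
      rw [mul_neg, ← hsim, ← hsim, hJe, hJe]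
      exact hskew' x y)
    have hJsim : ∀ a b, l₁ * pS Q (J a) (J b) = l * pS Q a b := fun x y => by
      rw [← hsim, hJe, hJe, hsim₀]
    have hJ0 : ∀ x, pS Q x (J x) = 0 := fun x => by
      have h := hJskew x x
      rw [pS_symm (J x) x] at h
      exact (mul_eq_zero.1 (show (2 : F) * pS Q x (J x) = 0 by linear_combination h)).resolve_left two
    -- singular vectors are eigenvectors
    have heig : ∀ {x y : W}, Q x = 0 → Q y = 0 → pS Q x y = 1 → J x = pS Q y (J x) • x := by
      intro x y hQx hQy hxy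
      set z := J x - pS Q y (J x) • x with hz
      have z1 : pS Q x z = 0 := by rw [hz, map_sub, map_smul, pS_self, hQx, mul_zero, smul_zero, sub_zero, hJ0]
      have z2 : pS Q y z = 0 := by rw [hz, map_sub, map_smul, pS_symm y x, hxy, smul_eq_mul, mul_one, sub_self]
      have hQJ : Q (J x) = 0 := by
        have h := hJsim x x
        rw [pS_self, pS_self, hQx, mul_zero, mul_zero] at h
        exact (mul_eq_zero.1 ((mul_eq_zero.1 h).resolve_left hl₁)).resolve_left two
      have z3 : Q z = 0 := by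
        rw [hz, sub_eq_add_neg, ← neg_smul, q_add, q_smul, hQx, map_smul, pS_symm (J x) x, hJ0, hQJ]
        simp
      refine sub_eq_zero.1 (by_contra fun hz0 => hO.third_ne (a := x + y) (b := x - y) ?_ ?_ ?_ hz0 ?_ ?_ z3)
      · simp [q_add, hQx, hQy, hxy]
      · simp [sub_eq_add_neg, q_add, QuadraticMap.map_neg, hQx, hQy, hxy]
      · simp [pS_self, hQx, hQy, hxy, pS_symm y x]
      · rw [map_add, LinearMap.add_apply, z1, z2, add_zero]
      · rw [map_sub (pS Q), LinearMap.sub_apply, z1, z2, sub_zero]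
    have hJs := heig hQs hQt hst
    have hJt := heig hQt hQs ((pS_symm _ _).trans hst)
    -- the third vector is killed
    have hJe' : J e = 0 := hO.wext fun w => by
      rw [hO.frame_exp ha hb he hab hae hbe w]
      simp only [map_add, map_smul, LinearMap.add_apply, LinearMap.smul_apply, map_zero, smul_eq_mul, hJ0 e, ha_def, hb_def,
        map_sub, LinearMap.sub_apply, hJskew s e, hJskew t e]
      rw [hJs, hJt]
      simp [hes.1, hes.2]
    have h := hJsim e e
    rw [hJe', map_zero, mul_zero, pS_self, eq_comm, mul_eq_zero, or_iff_right hl] at h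
    exact he ((mul_eq_zero.1 h).resolve_left two)
  -- the image vector
  obtain ⟨w₁, hw₁⟩ := hw
  obtain ⟨a₁, ha₁⟩ := hO.exists_one (fun h => hw₁ (hinj _ h) : C₁ w₁ ≠ 0)
  let φ : U →ₗ[F] F :=
    { toFun := fun v => pS Q (hO.cmap g u v w₁) a₁
      map_add' := fun v v' => by simp [hO.cmap_apply]
      map_smul' := fun c v => by simp [hO.cmap_apply] }
  have hφ : ∀ v a, hO.cmap g u v a = φ v • C₁ a := fun v a => by
    obtain ⟨c, hc⟩ := hprop v
    have : φ v = c := by
      show pS Q (hO.cmap g u v w₁) a₁ = c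
      rw [hc, map_smul, LinearMap.smul_apply, ha₁, smul_eq_mul, mul_one]
    rw [this, hc]
  obtain ⟨u', -, hu'⟩ := Alt.exists_repr hO.walt (Alt.ndon_top hO.wnd) (-φ)
  refine ⟨u', -(hO.amap g u v₁), fun h => ?_, fun a ha => ?_, fun a => hO.vext fun v w => ?_⟩
  · have h1 : φ v₁ = 1 := by
      show pS Q (C₁ w₁) a₁ = 1
      exact ha₁
    have h2 := hu' v₁ trivial
    rw [h, map_zero, LinearMap.neg_apply, h1] at h2
    exact one_ne_zero (neg_eq_zero.1 h2.symm)
  · refine hO.wext fun w => ?_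
    obtain ⟨b, rfl⟩ := LinearMap.surjective_of_injective ((injective_iff_map_eq_zero C₁).2 hinj) w
    rw [map_zero, ← neg_neg (pS Q (C₁ b) a), ← hO.pS_amap hg]
    rw [LinearMap.neg_apply, neg_eq_zero] at ha
    rw [ha, map_zero, LinearMap.zero_apply, neg_zero]
  · rw [Alt.neg' hO.alt (g (ι u a)) (ι v w), ← hO.pS_cmap hg, hφ, map_smul, hO.form, hu' v trivial, LinearMap.neg_apply,
      LinearMap.neg_apply, map_neg, smul_eq_mul, pS_symm w (hO.amap g u v₁ a), hO.pS_amap hg, pS_symm (C₁ w) a]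
    ring

/-- an element which does not give everything preserves the decomposition -/
theorem inT (hO : Over Q ω B ι X) {g : V ≃ₗ[F] V} (hg : g ∈ X) (hD : ¬ ∀ z, z ∈ centres hO.alt X) :
    ∃ (σ : U →ₗ[F] U) (T : W →ₗ[F] W), ∀ u w, g (ι u w) = ι (σ u) (T w) := by
  classical
  obtain ⟨w₀, hw₀⟩ : ∃ w : W, w ≠ 0 := by
    have : Nontrivial W := Module.nontrivial_of_finrank_pos (R := F) (by rw [hO.dim]; norm_num)
    exact exists_ne 0
  by_cases hU : ∀ u : U, u = 0
  · exact ⟨LinearMap.id, LinearMap.id, fun u w => by rw [hU u]; simp⟩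
  push Not at hU
  obtain ⟨u₀, hu₀⟩ := hU
  obtain ⟨σ₀, T, hσ₀, hT, hg₀⟩ := hO.pure_line hg hD hu₀
  have hT0 : T w₀ ≠ 0 := fun h => hw₀ (hT _ h)
  have hall : ∀ u, ∃ u' : U, ∀ a, g (ι u a) = ι u' (T a) := by
    intro u
    by_cases hus : u ∈ Submodule.span F {u₀}
    · obtain ⟨c, rfl⟩ := Submodule.mem_span_singleton.1 hus
      exact ⟨c • σ₀, fun a => by simp [hg₀]⟩
    have hu : u ≠ 0 := fun h => hus (h ▸ zero_mem _)
    obtain ⟨σ₁, T₁, hσ₁, hT₁, hg₁⟩ := hO.pure_line hg hD hu
    obtain ⟨σ₂, T₂, -, -, hg₂⟩ := hO.pure_line hg hD (u := u₀ + u) (fun h => hus (by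
      rw [show u = -u₀ from eq_neg_of_add_eq_zero_right h]
      exact neg_mem (Submodule.mem_span_singleton_self u₀)))
    have hsum : ∀ a, ι σ₂ (T₂ a) = ι σ₀ (T a) + ι σ₁ (T₁ a) := fun a => by
      rw [← hg₂, ← hg₀, ← hg₁, map_add ι, LinearMap.add_apply, map_add g]
    have hTsurj : Function.Surjective T := LinearMap.surjective_of_injective ((injective_iff_map_eq_zero T).2 hT)
    have hindep : σ₁ ∉ Submodule.span F {σ₀} := fun h => by
      obtain ⟨c, hc⟩ := Submodule.mem_span_singleton.1 h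
      obtain ⟨a, ha⟩ := hTsurj (c • T₁ w₀)
      have h1 : g (ι u w₀) = g (ι u₀ a) := by rw [hg₁, hg₀, ha, ← hc]; simp
      obtain ⟨v, hv1, hv0⟩ := hO.exists_sep hus
      have h2 := congrArg (hO.pi v) (g.injective h1)
      rw [hO.pi_iota, hO.pi_iota, hv1, hv0, one_smul, zero_smul] at h2
      exact hw₀ h2
    have hindep' : σ₀ ∉ Submodule.span F {σ₁} := fun h => by
      obtain ⟨c, hc⟩ := Submodule.mem_span_singleton.1 h
      have hc0 : c ≠ 0 := fun h0 => hσ₀ (by rw [← hc, h0, zero_smul])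
      exact hindep (Submodule.mem_span_singleton.2 ⟨c⁻¹, by rw [← hc, smul_smul, inv_mul_cancel₀ hc0, one_smul]⟩)
    obtain ⟨v, hv1, hv0⟩ := hO.exists_sep hindep'
    obtain ⟨v', hv'1, hv'0⟩ := hO.exists_sep hindep
    have e0 : ∀ a, ω v σ₂ • T₂ a = T a := fun a => by
      have := congrArg (hO.pi v) (hsum a)
      rwa [map_add, hO.pi_iota, hO.pi_iota, hO.pi_iota, hv1, hv0, one_smul, zero_smul, add_zero] at this
    have e1 : ∀ a, ω v' σ₂ • T₂ a = T₁ a := fun a => by
      have := congrArg (hO.pi v') (hsum a)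
      rwa [map_add, hO.pi_iota, hO.pi_iota, hO.pi_iota, hv'1, hv'0, one_smul, zero_smul, zero_add] at this
    have hne : ω v σ₂ ≠ 0 := fun h => hT0 (by rw [← e0, h, zero_smul])
    refine ⟨(ω v' σ₂ / ω v σ₂) • σ₁, fun a => ?_⟩
    rw [hg₁, ← e1 a, ← e0 a]
    simp only [map_smul, LinearMap.smul_apply, smul_smul]
    congr 1
    field_simp
  choose σ hσ using hall
  have huniq : ∀ p q : U, (∀ a, ι p (T a) = ι q (T a)) → p = q := fun p q h => by
    have h1 : ι (p - q) (T w₀) = 0 := by rw [map_sub, LinearMap.sub_apply, h, sub_self]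
    exact sub_eq_zero.1 ((hO.iota_eq_zero h1).resolve_right hT0)
  exact ⟨{ toFun := σ
           map_add' := fun u v => huniq _ _ fun a => by
             rw [← hσ, map_add ι, LinearMap.add_apply, map_add g, hσ, hσ, map_add ι, LinearMap.add_apply]
           map_smul' := fun c u => huniq _ _ fun a => by
             rw [← hσ, map_smul ι, LinearMap.smul_apply, map_smul g, hσ, RingHom.id_apply, map_smul ι, LinearMap.smul_apply] },
    T, fun u w => hσ u w⟩

end Over

end Cfsg.Agent.ClassicalMax.SpThree
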