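import Cfsg.Agent.ClassicalMax.SpThree.Basic

/-!
For `Sp(U) ⊗ O(W)` with `dim W = 3`: a non-scalar symmetric parameter gives a transvection with centre `v ⊗ s`, `s` singular,
and such centres give all transvections.
-/

set_option autoImplicit false
set_option linter.unusedSectionVars false

namespace Cfsg.Agent.ClassicalMax.SpThree

open Module QuadraticMap Cfsg.Agent.Classical Cfsg.Agent.ClassicalMax
open Cfsg.Agent.ClassicalMax.SpTwo (pS pS_apply pS_symm pS_self q_add q_smul exists_sq_ne)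

variable {F U W V : Type*} [Field F] [Finite F] [AddCommGroup U] [Module F U] [FiniteDimensional F U]
  [AddCommGroup W] [Module F W] [FiniteDimensional F W] [AddCommGroup V] [Module F V] [FiniteDimensional F V]
  {Q : QuadraticForm F W} {ω : LinearMap.BilinForm F U} {B : LinearMap.BilinForm F V}
  {ι : U →ₗ[F] W →ₗ[F] V} {X : Subgroup (V ≃ₗ[F] V)}

namespace Over

theorem pS_ne (hO : Over Q ω B ι X) {a : W} (ha : a ≠ 0) : pS Q a ≠ 0 := fun h =>
  ha (hO.nd.1 a fun w => LinearMap.congr_fun h w)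

theorem exists_one (hO : Over Q ω B ι X) {a : W} (ha : a ≠ 0) : ∃ b, pS Q a b = 1 := by
  obtain ⟨b, hb⟩ := not_forall.1 fun h => hO.pS_ne ha (LinearMap.ext h)
  exact ⟨(pS Q a b)⁻¹ • b, by rw [map_smul, smul_eq_mul, inv_mul_cancel₀ hb]⟩

theorem exists_partner (hO : Over Q ω B ι X) {s : W} (hs : s ≠ 0) (hQs : Q s = 0) :
    ∃ t, pS Q s t = 1 ∧ Q t = 0 := by
  obtain ⟨w, hw⟩ := hO.exists_one hs
  refine ⟨w + (-Q w) • s, by rw [map_add, map_smul, pS_self, hQs, mul_zero, smul_zero, add_zero, hw], ?_⟩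
  rw [q_add, q_smul, hQs, map_smul, pS_symm, hw, smul_eq_mul]
  ring

theorem exists_perp_two (hO : Over Q ω B ι X) (a b : W) : ∃ e, e ≠ 0 ∧ pS Q a e = 0 ∧ pS Q b e = 0 := by
  set f : W →ₗ[F] F × F := (pS Q a).prod (pS Q b)
  obtain ⟨e, he, he0⟩ := (LinearMap.ker f).exists_mem_ne_zero_of_ne_bot fun h => by
    have h1 := f.finrank_range_add_finrank_ker
    have h2 := Submodule.finrank_le (LinearMap.range f)
    rw [Module.finrank_prod, Module.finrank_self] at h2
    rw [h, finrank_bot, hO.dim] at h1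
    omega
  exact ⟨e, he0, congrArg Prod.fst (LinearMap.mem_ker.1 he), congrArg Prod.snd (LinearMap.mem_ker.1 he)⟩

/-- three pairwise orthogonal anisotropic vectors form a basis -/
theorem frame_exp (hO : Over Q ω B ι X) {a b c : W} (ha : Q a ≠ 0) (hb : Q b ≠ 0) (hc : Q c ≠ 0) (hab : pS Q a b = 0)
    (hac : pS Q a c = 0) (hbc : pS Q b c = 0) (w : W) :
    w = (pS Q a w / (2 * Q a)) • a + (pS Q b w / (2 * Q b)) • b + (pS Q c w / (2 * Q c)) • c := by
  have hli : LinearIndependent F ![a, b, c] := by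
    rw [Fintype.linearIndependent_iff]
    intro g hg
    rw [Fin.sum_univ_three] at hg
    replace hg : g 0 • a + g 1 • b + g 2 • c = 0 := hg
    have k : ∀ z, g 0 * pS Q z a + g 1 * pS Q z b + g 2 * pS Q z c = 0 := fun z => by
      have := congrArg (pS Q z) hg
      simpa using this
    have k0 := k a
    have k1 := k b
    have k2 := k c
    simp only [pS_self, pS_symm b a, pS_symm c a, pS_symm c b, hab, hac, hbc, mul_zero, add_zero, zero_add,
      mul_eq_zero, hO.two, ha, hb, hc, or_false] at k0 k1 k2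
    intro i
    fin_cases i <;> assumption
  have htop := hli.span_eq_top_of_card_eq_finrank (by rw [Fintype.card_fin, hO.dim])
  obtain ⟨g, rfl⟩ := (Submodule.mem_span_range_iff_exists_fun F).1
    (show w ∈ Submodule.span F (Set.range ![a, b, c]) from htop ▸ Submodule.mem_top)
  have h2 := hO.two
  simp only [Fin.sum_univ_three, Matrix.cons_val, map_add, map_smul, pS_self, pS_symm b a, pS_symm c a, pS_symm c b,
    hab, hac, hbc, smul_eq_mul, mul_zero, add_zero, zero_add]
  congr 1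
  · congr 1 <;> congr 1 <;> field_simp
  · congr 1
    field_simp

theorem third_ne (hO : Over Q ω B ι X) {a b e : W} (ha : Q a ≠ 0) (hb : Q b ≠ 0) (hab : pS Q a b = 0) (he : e ≠ 0)
    (hae : pS Q a e = 0) (hbe : pS Q b e = 0) : Q e ≠ 0 := by
  intro h
  obtain ⟨t, ht⟩ := hO.exists_one he
  have hab2 : ∀ w, pS Q a (w - (pS Q a w / (2 * Q a)) • a - (pS Q b w / (2 * Q b)) • b) = 0 ∧
      pS Q b (w - (pS Q a w / (2 * Q a)) • a - (pS Q b w / (2 * Q b)) • b) = 0 := fun w => by
    have h2 := hO.two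
    constructor <;> simp [pS_self, hab, pS_symm b a] <;> field_simp <;> ring
  set t' := t - (pS Q a t / (2 * Q a)) • a - (pS Q b t / (2 * Q b)) • b
  obtain ⟨k1, k2⟩ := hab2 t
  have k3 : pS Q e t' = 1 := by simp [t', ht, pS_symm e a, hae, pS_symm e b, hbe]
  -- an anisotropic vector orthogonal to both
  obtain ⟨c, hc, hca, hcb⟩ : ∃ c, Q c ≠ 0 ∧ pS Q a c = 0 ∧ pS Q b c = 0 := by
    by_cases ht' : Q t' = 0
    · refine ⟨t' + e, ?_, by rw [map_add, hae, add_zero]; exact k1, by rw [map_add, hbe, add_zero]; exact k2⟩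
      rw [q_add, ht', h, pS_symm, k3]
      simp
    · exact ⟨t', ht', k1, k2⟩
  have hexp := hO.frame_exp ha hb hc hab hca hcb e
  rw [hae, hbe, zero_div, zero_div, zero_smul, zero_smul, zero_add, zero_add] at hexp
  have hh := congrArg Q hexp
  rw [h, q_smul, eq_comm, mul_eq_zero, or_iff_left hc] at hh
  rw [mul_self_eq_zero.1 hh, zero_smul] at hexp
  exact he hexp

theorem indep_orth (hO : Over Q ω B ι X) {a d : W} (ha : Q a ≠ 0) (hd : d ≠ 0) (had : pS Q a d = 0) :
    LinearIndependent F ![a, d] := by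
  refine LinearIndependent.pair_iff.2 fun s t e => ?_
  have h1 := congrArg (pS Q a) e
  rw [map_add, map_smul, map_smul, pS_self, had, smul_zero, add_zero, map_zero, smul_eq_mul, mul_eq_zero] at h1
  have hs : s = 0 := h1.resolve_right (mul_ne_zero hO.two ha)
  rw [hs, zero_smul, zero_add, smul_eq_zero] at e
  exact ⟨hs, e.resolve_right hd⟩

theorem exists_map₂ (hO : Over Q ω B ι X) {a b a' b' : W} (hab : LinearIndependent F ![a, b])
    (hab' : LinearIndependent F ![a', b']) (ha : Q a = Q a') (hb : Q b = Q b') (h : pS Q a b = pS Q a' b') :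
    ∃ k ∈ Quad.oG Q, k a = a' ∧ k b = b' := by
  obtain ⟨k, hk, hkx⟩ := Quad.witt_family hO.nd 2 ![a, b] ![a', b'] hab hab'
    (fun i => by fin_cases i <;> simp [ha, hb])
    (fun i j => by
      show pS Q (![a, b] i) (![a, b] j) = pS Q (![a', b'] i) (![a', b'] j)
      fin_cases i <;> fin_cases j <;> simp [pS_self, ha, hb, h, pS_symm b a, pS_symm b' a'])
  exact ⟨k, hk, hkx 0, hkx 1⟩

/-- an off-diagonal parameter with anisotropic entries spreads over the orthogonal of one of them -/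
theorem mem_offdiag (hO : Over Q ω B ι X) {v : U} {a z : W} (ha : Q a ≠ 0) (hz : Q z ≠ 0) (haz : pS Q a z = 0)
    (hm : hO.Mem v (dy Q a z)) {d : W} (had : pS Q a d = 0) : hO.Mem v (dy Q a d) := by
  obtain ⟨e, he0, hae, hze⟩ := hO.exists_perp_two a z
  have he := hO.third_ne ha hz haz he0 hae hze
  obtain ⟨t, ht0, htne⟩ := exists_sq_ne hO.card (-(Q z / Q e))
  have hden : Q z + Q e * t ^ 2 ≠ 0 := fun h0 => htne (by field_simp; linear_combination h0)
  set x := (Q z - Q e * t ^ 2) / (Q z + Q e * t ^ 2)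
  set y := 2 * t * Q z / (Q z + Q e * t ^ 2)
  have hy : y ≠ 0 := div_ne_zero (mul_ne_zero (mul_ne_zero hO.two ht0) hz) hden
  have hQ' : Q (x • z + y • e) = Q z := by
    rw [q_add, q_smul, q_smul, map_smul, map_smul, LinearMap.smul_apply, hze]
    simp only [x, y, smul_eq_mul, mul_zero, add_zero]
    field_simp
    ring
  have hz0 : z ≠ 0 := fun h => hz (by rw [h, QuadraticMap.map_zero])
  have hz'0 : x • z + y • e ≠ 0 := fun h => hz (by rw [← hQ', h, QuadraticMap.map_zero])
  have haz' : pS Q a (x • z + y • e) = 0 := by simp [haz, hae]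
  obtain ⟨k, hk, hka, hkz⟩ := hO.exists_map₂ (hO.indep_orth ha hz0 haz) (hO.indep_orth ha hz'0 haz') rfl hQ'.symm
    (haz.trans haz'.symm)
  have h1 := hO.mem_dy_map hk hm
  rw [hka, hkz, dy_add_right, dy_smul_right, dy_smul_right] at h1
  have h2 := hO.mem_add h1 (hO.mem_smul hm (-x))
  rw [show x • dy Q a z + y • dy Q a e + -x • dy Q a z = y • dy Q a e by module] at h2
  have h3 := hO.mem_smul h2 y⁻¹
  rw [inv_smul_smul₀ hy] at h3
  rw [hO.frame_exp ha hz he haz hae hze d, had, zero_div, zero_smul, zero_add, dy_add_right, dy_smul_right, dy_smul_right]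
  exact hO.mem_add (hO.mem_smul hm _) (hO.mem_smul h3 _)

/-- from a symmetric product with one singular entry, a square -/
theorem mem_sing_sq (hO : Over Q ω B ι X) {v : U} {d s : W} (hd : Q d ≠ 0) (hs : s ≠ 0) (hQs : Q s = 0)
    (hds : pS Q d s = 0) (hm : hO.Mem v (dy Q d s)) : hO.Mem v (dy Q s s) := by
  have hQ : Q (d + s) = Q d := by rw [q_add, hQs, hds, add_zero, add_zero]
  have hps : pS Q (d + s) s = 0 := by simp [hds, pS_self, hQs]
  obtain ⟨k, hk, hkd, hks⟩ := hO.exists_map₂ (hO.indep_orth hd hs hds)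
    (hO.indep_orth (a := d + s) (by rw [hQ]; exact hd) hs hps) hQ.symm rfl (hds.trans hps.symm)
  have h := hO.mem_add (hO.mem_dy_map hk hm) (hO.mem_neg hm)
  rw [hkd, hks, dy_comm (d + s) s, dy_add_right, dy_comm d s] at h
  rwa [add_neg_cancel_comm] at h

theorem exists_singular (hO : Over Q ω B ι X) : ∃ s : W, s ≠ 0 ∧ Q s = 0 :=
  Quad.exists_singular Q (by rw [hO.dim])

/-- a non-scalar symmetric parameter gives a singular square -/
theorem exists_sing_sq (hO : Over Q ω B ι X) {v : U} {M : W →ₗ[F] W}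
    (hsym : ∀ a b, pS Q (M a) b = pS Q a (M b)) (hns : ∀ c : F, M ≠ c • LinearMap.id) (hm : hO.Mem v M) :
    ∃ s, s ≠ 0 ∧ Q s = 0 ∧ hO.Mem v (dy Q s s) := by
  have two := hO.two
  -- an anisotropic vector which is not an eigenvector
  obtain ⟨a, ha, hne⟩ : ∃ a, Q a ≠ 0 ∧ ∀ c : F, M a ≠ c • a := by
    by_contra! hc
    obtain ⟨s, hs, hQs⟩ := hO.exists_singular
    obtain ⟨t, hst, hQt⟩ := hO.exists_partner hs hQs
    set a := s + t
    have ha : Q a ≠ 0 := by simp [a, q_add, hQs, hQt, hst]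
    set b := s - t
    have hb : Q b ≠ 0 := by
      simp [b, sub_eq_add_neg, q_add, QuadraticMap.map_neg, hQs, hQt, hst]
    have hab : pS Q a b = 0 := by simp [a, b, pS_self, hQs, hQt, hst, pS_symm t s]
    obtain ⟨e, he0, hae, hbe⟩ := hO.exists_perp_two a b
    have he := hO.third_ne ha hb hab he0 hae hbe
    obtain ⟨la, hla⟩ := hc a ha
    have same : ∀ c, Q c ≠ 0 → pS Q a c = 0 → M c = la • c := by
      intro c hc' hac
      obtain ⟨lc, hlc⟩ := hc c hc'
      obtain ⟨r, hr, hrne⟩ := exists_sq_ne hO.card (-(Q a / Q c))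
      obtain ⟨l, hl⟩ := hc (a + r • c) (fun h0 => hrne (by
        rw [q_add, q_smul, map_smul, hac, smul_zero, add_zero] at h0
        field_simp
        linear_combination h0))
      rw [map_add, map_smul, hla, hlc] at hl
      have k1 := congrArg (pS Q a) hl
      have k2 := congrArg (pS Q c) hl
      simp [pS_self, hac, pS_symm c a, two, ha] at k1
      simp [pS_self, hac, pS_symm c a] at k2
      rw [k1] at *
      have : (lc - l) * r * (2 * Q c) = 0 := by linear_combination k2
      rw [mul_eq_zero, mul_eq_zero, or_iff_left (mul_ne_zero two hc'), or_iff_left hr, sub_eq_zero] at this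
      rw [hlc, this]
    refine hns la (LinearMap.ext fun w => ?_)
    rw [hO.frame_exp ha hb he hab hae hbe w]
    simp only [map_add, map_smul, hla, same b hb hab, same e he hae, LinearMap.smul_apply, LinearMap.id_apply]
  set μ := pS Q (M a) a / (2 * Q a) with hμ
  set z := M a - μ • a with hz
  have haz : pS Q a z = 0 := by
    rw [hz, map_sub, map_smul, pS_self, smul_eq_mul, hμ, pS_symm (M a) a]
    field_simp
    ring
  have hz0 : z ≠ 0 := fun h => hne μ (sub_eq_zero.1 h)
  have hm1 : hO.Mem v (dy Q a z) := by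
    have hk := Quad.refl_mem (Q := Q) ha
    have h := hO.mem_smul (hO.mem_add hm (hO.mem_neg (hO.mem_o hk hm))) (Q a)
    convert h using 1
    refine LinearMap.ext fun x => ?_
    have hinv : (Quad.refl (Q := Q) ha).symm x = Quad.refl (Q := Q) ha x := by
      rw [LinearEquiv.symm_apply_eq]
      simp only [Quad.refl_apply, map_sub, map_smul, ← pS_apply, LinearMap.sub_apply, LinearMap.smul_apply, pS_self,
        smul_eq_mul]
      match_scalars <;> field_simp <;> ring
    simp only [LinearMap.smul_apply, LinearMap.add_apply, LinearMap.neg_apply, LinearMap.comp_apply, LinearEquiv.coe_coe,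
      hinv, Quad.refl_apply, ← pS_apply, dy_apply, hz, hμ, map_sub, map_smul, LinearMap.sub_apply, LinearMap.smul_apply,
      smul_eq_mul, pS_symm x a, hsym x a, pS_symm x (M a)]
    match_scalars <;> field_simp <;> ring
  by_cases hQz : Q z = 0
  · exact ⟨z, hz0, hQz, hO.mem_sing_sq ha hz0 hQz haz hm1⟩
  obtain ⟨s, hs, hQs⟩ := hO.exists_singular
  obtain ⟨d, hd0, had, hsd⟩ := hO.exists_perp_two a s
  have hmd := hO.mem_offdiag ha hQz haz hm1 had
  by_cases hQd : Q d = 0
  · exact ⟨d, hd0, hQd, hO.mem_sing_sq ha hd0 hQd had hmd⟩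
  have hds : pS Q d s = 0 := (pS_symm _ _).trans hsd
  have hda : pS Q d a = 0 := (pS_symm _ _).trans had
  rw [dy_comm] at hmd
  exact ⟨s, hs, hQs, hO.mem_sing_sq hQd hs hQs hds (hO.mem_offdiag hQd ha hda hmd hds)⟩

theorem centre_of_sq (hO : Over Q ω B ι X) {v : U} {s : W} (hm : hO.Mem v (dy Q s s)) :
    ι v s ∈ centres hO.alt X := fun c => by
  obtain ⟨x, hx, hxe⟩ := hO.mem_smul hm (-(c / 2))
  have : Alt.tv hO.alt (ι v s) c = x := LinearEquiv.ext fun z => by
    rw [hxe, Alt.tv_apply]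
    simp only [LinearMap.smul_apply, dy_apply, hO.pS_pi, map_add, map_smul, smul_add, smul_smul,
      Alt.neg' hO.alt z (ι v s)]
    have := hO.two
    match_scalars
    · rfl
    · field_simp
      ring
  rw [this]
  exact hx

/-- one transvection with pure singular centre gives all -/
theorem done_of_centre (hO : Over Q ω B ι X) {v : U} (hv : v ≠ 0) {s : W} (hs : s ≠ 0) (hQs : Q s = 0)
    (hc : ι v s ∈ centres hO.alt X) : ∀ z, z ∈ centres hO.alt X := by
  classical
  have two := hO.two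
  -- pure singular
  have hsing : ∀ (u : U) (w : W), Q w = 0 → ι u w ∈ centres hO.alt X := by
    intro u w hw
    rcases eq_or_ne u 0 with rfl | hu
    · rw [map_zero, LinearMap.zero_apply]; exact zero_mem_centres
    rcases eq_or_ne w 0 with rfl | hw0
    · rw [map_zero]; exact zero_mem_centres
    obtain ⟨⟨h, hh⟩, hhv⟩ := Alt.exists_iso_map hO.walt hO.wnd hv hu
    obtain ⟨k, hk, hks⟩ := Quad.witt_family hO.nd 1 ![s] ![w] (LinearIndependent.of_subsingleton 0 hs)
      (LinearIndependent.of_subsingleton 0 hw0) (fun i => by fin_cases i; simp [hQs, hw])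
      (fun i j => by fin_cases i; fin_cases j; simp [Quad.polar_self', hQs, hw])
    obtain ⟨x, hx, hxe⟩ := hO.sp_mem h hh
    obtain ⟨y, hy, hye⟩ := hO.o_mem k hk
    have h1 := map_mem_centres hc (mul_mem hx hy) (hO.iso _ (mul_mem hx hy))
    rw [LinearEquiv.mul_apply, hye, hxe] at h1
    rwa [show h v = u from hhv, show k s = w from hks 0] at h1
  have hdual : ∀ u : U, u ≠ 0 → ∃ u', ω u u' = 1 := fun u hu => by
    obtain ⟨y, hy⟩ := not_forall.1 fun h => hu (hO.wnd.1 u h)
    exact ⟨(ω u y)⁻¹ • y, by rw [map_smul, smul_eq_mul, inv_mul_cancel₀ hy]⟩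
  have avoid : ∀ c : F, ∃ μ : F, μ ≠ 0 ∧ μ ≠ c := fun c => by
    have : Fintype F := Fintype.ofFinite F
    obtain ⟨μ, -, hμ⟩ := Finset.exists_mem_notMem_of_card_lt_card (s := ({0, c} : Finset F)) (t := Finset.univ) (by
      refine lt_of_le_of_lt Finset.card_le_two ?_
      rw [Finset.card_univ, ← Nat.card_eq_fintype_card]
      exact lt_of_lt_of_le (by norm_num) hO.card)
    simp only [Finset.mem_insert, Finset.mem_singleton, not_or] at hμ
    exact ⟨μ, hμ.1, hμ.2⟩
  -- the detour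
  have detour : ∀ {x e y : V}, x ∈ centres hO.alt X → e ∈ centres hO.alt X → y ∈ centres hO.alt X → B x y ≠ 0 →
      B e y ≠ 0 → B (x + e) y ≠ 0 → x + e ∈ centres hO.alt X := by
    intro x e y hx he hy h1 h2 h3
    by_cases h0 : B x e = 0
    swap
    · have := add_smul_mem_centres hx he h0 1
      rwa [one_smul] at this
    have z1 : x + (1 : F) • y ∈ centres hO.alt X := add_smul_mem_centres hx hy h1 1
    rw [one_smul] at z1
    have z2 : x + y + (1 : F) • e ∈ centres hO.alt X := add_smul_mem_centres z1 he (by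
      rw [map_add, LinearMap.add_apply, h0, zero_add, Alt.neg' hO.alt e y]
      exact neg_ne_zero.2 h2) 1
    rw [one_smul] at z2
    have z3 := add_smul_mem_centres z2 hy (by
      rw [show x + y + e = x + e + y by abel, map_add, LinearMap.add_apply, hO.alt y, add_zero]
      exact h3) (-1)
    rwa [show x + y + e + (-1 : F) • y = x + e by module] at z3
  -- pure
  have hpure : ∀ (u : U) (w : W), ι u w ∈ centres hO.alt X := by
    intro u w
    rcases eq_or_ne u 0 with rfl | hu
    · rw [map_zero, LinearMap.zero_apply]; exact zero_mem_centres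
    by_cases hw : Q w = 0
    · exact hsing u w hw
    obtain ⟨r, hr, hQr, hwr⟩ : ∃ r, r ≠ 0 ∧ Q r = 0 ∧ pS Q w r ≠ 0 := by
      obtain ⟨t, hst, hQt⟩ := hO.exists_partner hs hQs
      by_cases h1 : pS Q w s = 0
      swap
      · exact ⟨s, hs, hQs, h1⟩
      by_cases h2 : pS Q w t = 0
      swap
      · exact ⟨t, fun h => by simp [h] at hst, hQt, h2⟩
      refine ⟨(-Q w) • s + t + w, fun h => ?_, ?_, ?_⟩
      · have := congrArg (pS Q w) h
        simp [h1, h2, pS_self, two, hw] at this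
      · simp [q_add, q_smul, hQs, hQt, hst, pS_symm s w, h1, pS_symm t w, h2]
      · simp [h1, h2, pS_self, two, hw]
    set c := Q w / pS Q w r with hcd
    set t := w - c • r with htd
    have hQt : Q t = 0 := by
      rw [htd, sub_eq_add_neg, ← neg_smul, q_add, q_smul, map_smul, hQr, smul_eq_mul, hcd]
      field_simp
      ring
    have hrt : pS Q r t = pS Q w r := by simp [htd, pS_self, hQr, pS_symm r w]
    have hc0 : c ≠ 0 := div_ne_zero hw hwr
    have ht0 : t ≠ 0 := fun h => hwr (by rw [← hrt, h, map_zero])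
    obtain ⟨u', hu'⟩ := hdual u hu
    obtain ⟨μ, hμ0, hμ⟩ := avoid (-(1 / c))
    have hab : B (ι u' r) (μ • ι (u' + u) t) ≠ 0 := by
      rw [map_smul, hO.form, map_add, hO.walt u', zero_add, hrt, Alt.neg' hO.walt u u', hu', smul_eq_mul]
      exact mul_ne_zero hμ0 (mul_ne_zero (neg_ne_zero.2 one_ne_zero) hwr)
    have hy := add_smul_mem_centres (hsing u' r hQr) (smul_mem_centres (hsing (u' + u) t hQt) μ) hab 1
    rw [one_smul] at hy
    have b1 : B (ι u (c • r)) (ι u' r + μ • ι (u' + u) t) = c * μ * pS Q w r := by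
      simp [hO.form, hu', hO.walt u, pS_self, hQr, hrt]
      ring
    have b2 : B (ι u t) (ι u' r + μ • ι (u' + u) t) = pS Q w r := by
      simp [hO.form, hu', hO.walt u, pS_self, hQt, pS_symm t r, hrt]
    have := detour (hsing u (c • r) (by rw [q_smul, hQr, mul_zero])) (hsing u t hQt) hy
      (b1 ▸ mul_ne_zero (mul_ne_zero hc0 hμ0) hwr) (b2 ▸ hwr) (by
        rw [map_add B, LinearMap.add_apply, b1, b2]
        intro h0
        refine hμ ?_
        have : (c * μ + 1) * pS Q w r = 0 := by linear_combination h0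
        field_simp
        linear_combination (mul_eq_zero.1 this).resolve_right hwr)
    rwa [← map_add, htd, add_sub_cancel] at this
  -- an orthogonal frame
  obtain ⟨t, hst, hQt⟩ := hO.exists_partner hs hQs
  set a := s + t with had
  have ha : Q a ≠ 0 := by simp [had, q_add, hQs, hQt, hst]
  set b := s - t with hbd
  have hb : Q b ≠ 0 := by simp [hbd, sub_eq_add_neg, q_add, QuadraticMap.map_neg, hQs, hQt, hst]
  have hab : pS Q a b = 0 := by simp [had, hbd, pS_self, hQs, hQt, hst, pS_symm t s]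
  obtain ⟨e, he0, hae, hbe⟩ := hO.exists_perp_two a b
  have he := hO.third_ne ha hb hab he0 hae hbe
  have both : ∀ (u₁ u₂ : U), u₁ ≠ 0 → u₂ ≠ 0 → ∃ u', ω u₁ u' ≠ 0 ∧ ω u₂ u' ≠ 0 := fun u₁ u₂ h1 h2 => by
    obtain ⟨p, hp⟩ := hdual u₁ h1
    obtain ⟨q, hq⟩ := hdual u₂ h2
    by_cases e1 : ω u₂ p = 0
    · by_cases e2 : ω u₁ q = 0
      · exact ⟨p + q, by simp [hp, e2], by simp [hq, e1]⟩
      · exact ⟨q, e2, by simp [hq]⟩
    · exact ⟨p, by simp [hp], e1⟩
  -- adding a pure vector in an orthogonal direction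
  have add_one : ∀ {x : V} {u₀ u₁ : U} {d₀ d₁ : W}, x ∈ centres hO.alt X → u₀ ≠ 0 → Q d₀ ≠ 0 → Q d₁ ≠ 0 →
      pS Q d₁ d₀ = 0 → (∀ u' : U, B x (ι u' d₀) = ω u₀ u' * (2 * Q d₀)) → (∀ u' : U, B x (ι u' d₁) = 0) →
      x + ι u₁ d₁ ∈ centres hO.alt X := by
    intro x u₀ u₁ d₀ d₁ hx hu₀ hd₀ hd₁ hdd hx₀ hx₁
    rcases eq_or_ne u₁ 0 with rfl | hu₁
    · rw [map_zero, LinearMap.zero_apply, add_zero]; exact hx
    obtain ⟨u', h1, h2⟩ := both u₀ u₁ hu₀ hu₁
    obtain ⟨μ, hμ0, hμ⟩ := avoid (-(ω u₀ u' * Q d₀) / (ω u₁ u' * Q d₁))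
    have e1 : B x (ι u' (d₀ + μ • d₁)) = ω u₀ u' * (2 * Q d₀) := by simp [hx₀, hx₁]
    have e2 : B (ι u₁ d₁) (ι u' (d₀ + μ • d₁)) = μ * (ω u₁ u' * (2 * Q d₁)) := by
      simp [hO.form, hdd, pS_self]
    refine detour hx (hpure u₁ d₁) (hpure u' (d₀ + μ • d₁)) (e1 ▸ mul_ne_zero h1 (mul_ne_zero two hd₀))
      (e2 ▸ mul_ne_zero hμ0 (mul_ne_zero h2 (mul_ne_zero two hd₁))) ?_
    rw [map_add B, LinearMap.add_apply, e1, e2]
    intro h0
    refine hμ ?_
    field_simp
    refine mul_left_cancel₀ two ?_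
    linear_combination h0
  intro z
  obtain ⟨u₁, u₂, u₃, rfl⟩ : ∃ u₁ u₂ u₃, z = ι u₁ a + ι u₂ b + ι u₃ e := by
    have hz : z ∈ Submodule.span F (Set.range fun p : U × W => ι p.1 p.2) := hO.span ▸ Submodule.mem_top
    induction hz using Submodule.span_induction with
    | mem x hx =>
      obtain ⟨⟨u, w⟩, rfl⟩ := hx
      refine ⟨(pS Q a w / (2 * Q a)) • u, (pS Q b w / (2 * Q b)) • u, (pS Q e w / (2 * Q e)) • u, ?_⟩
      show ι u w = _
      conv_lhs => rw [hO.frame_exp ha hb he hab hae hbe w]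
      simp
    | zero => exact ⟨0, 0, 0, by simp⟩
    | add x y _ _ ihx ihy =>
      obtain ⟨p1, p2, p3, rfl⟩ := ihx
      obtain ⟨q1, q2, q3, rfl⟩ := ihy
      exact ⟨p1 + q1, p2 + q2, p3 + q3, by simp only [map_add, LinearMap.add_apply]; abel⟩
    | smul c x _ ih =>
      obtain ⟨p1, p2, p3, rfl⟩ := ih
      exact ⟨c • p1, c • p2, c • p3, by simp [smul_add]⟩
  have hba : pS Q b a = 0 := (pS_symm _ _).trans hab
  have hea : pS Q e a = 0 := (pS_symm _ _).trans hae
  have heb : pS Q e b = 0 := (pS_symm _ _).trans hbe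
  rcases eq_or_ne u₁ 0 with rfl | h1
  · rw [map_zero, LinearMap.zero_apply, zero_add]
    rcases eq_or_ne u₂ 0 with rfl | h2
    · rw [map_zero, LinearMap.zero_apply, zero_add]; exact hpure _ _
    exact add_one (hpure u₂ b) h2 hb he heb (fun u' => by rw [hO.form, pS_self])
      (fun u' => by rw [hO.form, hbe, mul_zero])
  have h12 : ι u₁ a + ι u₂ b ∈ centres hO.alt X :=
    add_one (hpure u₁ a) h1 ha hb hba (fun u' => by rw [hO.form, pS_self]) (fun u' => by rw [hO.form, hab, mul_zero])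
  exact add_one h12 h1 ha he hea (fun u' => by simp [hO.form, hba, pS_self]) (fun u' => by simp [hO.form, hae, hbe])

/-- a non-scalar symmetric parameter gives everything -/
theorem done_of_mem (hO : Over Q ω B ι X) {v : U} (hv : v ≠ 0) {M : W →ₗ[F] W}
    (hsym : ∀ a b, pS Q (M a) b = pS Q a (M b)) (hns : ∀ c : F, M ≠ c • LinearMap.id) (hm : hO.Mem v M) :
    ∀ z, z ∈ centres hO.alt X := by
  obtain ⟨s, hs, hQs, hm'⟩ := hO.exists_sing_sq hsym hns hm
  exact hO.done_of_centre hv hs hQs (hO.centre_of_sq hm')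

end Over

end Cfsg.Agent.ClassicalMax.SpThree
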