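import Cfsg.Agent.ClassicalMax.SpThree.Spread

/-!
For `Sp(U) ⊗ O(W)` with `dim W = 3` and an element `g`: the unipotent group of `v` and the conjugate by `g` of that of `u`
meet in an operator `N` on `W`. An explicit word in the two groups shows that if `N` is not scalar there is a non-scalar
parameter; if `N = 0` but the pairing is not, there is a transvection. Otherwise `g` preserves the decomposition.
-/

set_option autoImplicit false
set_option linter.unusedSectionVars false

namespace Cfsg.Agent.ClassicalMax.SpThree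

open Module QuadraticMap Cfsg.Agent.Classical Cfsg.Agent.ClassicalMax
open Cfsg.Agent.ClassicalMax.SpTwo (pS pS_apply pS_symm pS_self q_add q_smul)

variable {F U W V : Type*} [Field F] [Finite F] [AddCommGroup U] [Module F U] [FiniteDimensional F U]
  [AddCommGroup W] [Module F W] [FiniteDimensional F W] [AddCommGroup V] [Module F V] [FiniteDimensional F V]
  {Q : QuadraticForm F W} {ω : LinearMap.BilinForm F U} {B : LinearMap.BilinForm F V}
  {ι : U →ₗ[F] W →ₗ[F] V} {X : Subgroup (V ≃ₗ[F] V)}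

/-- a polynomial of degree at most three with non-zero constant term has a non-root other than zero -/
theorem exists_nonroot (hF : 5 ≤ Nat.card F) (a b c d : F) (hd : d ≠ 0) :
    ∃ k : F, k ≠ 0 ∧ a * k ^ 3 + b * k ^ 2 + c * k + d ≠ 0 := by
  classical
  have : Fintype F := Fintype.ofFinite F
  by_contra! hc
  set f : Polynomial F := Polynomial.C a * Polynomial.X ^ 3 + Polynomial.C b * Polynomial.X ^ 2 +
    Polynomial.C c * Polynomial.X + Polynomial.C d with hf
  have hdeg : f.natDegree ≤ 3 := by rw [hf]; compute_degree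
  have h0 : f = 0 := Polynomial.eq_zero_of_natDegree_lt_card_of_eval_eq_zero' f ((Finset.univ : Finset F).erase 0)
    (fun k hk => by simp [hf]; exact hc k (Finset.mem_erase.1 hk).1) (by
      rw [Finset.card_erase_of_mem (Finset.mem_univ _), Finset.card_univ, ← Nat.card_eq_fintype_card]
      omega)
  have := congrArg (fun q : Polynomial F => q.eval 0) h0
  simp [hf] at this
  exact hd this

theorem exists_avoid_three (hF : 5 ≤ Nat.card F) (a b c : F) : ∃ k : F, k ≠ a ∧ k ≠ b ∧ k ≠ c := by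
  classical
  have : Fintype F := Fintype.ofFinite F
  obtain ⟨k, -, hk⟩ := Finset.exists_mem_notMem_of_card_lt_card (s := ({a, b, c} : Finset F)) (t := Finset.univ) (by
    refine lt_of_le_of_lt Finset.card_le_three ?_
    rw [Finset.card_univ, ← Nat.card_eq_fintype_card]
    omega)
  simp only [Finset.mem_insert, Finset.mem_singleton, not_or] at hk
  exact ⟨k, hk.1, hk.2.1, hk.2.2⟩

/-- the conditions under which the word gives a parameter whose square is not scalar -/
theorem exists_params (hF : 5 ≤ Nat.card F) (hdim : finrank F W = 3) (h2 : (2 : F) ≠ 0) (N : W →ₗ[F] W)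
    (hns : ∀ c : F, N ≠ c • LinearMap.id) : ∃ p r t K C : F, C ≠ 0 ∧ K ≠ 0 ∧ C * t * K - r * K + 1 ≠ 0 ∧
      t ^ 2 * K ^ 3 + p * t * K ^ 2 - r * K + 1 ≠ 0 ∧ C ≠ K * (p + t * K) ∧
      (∀ w, N (N (N w)) = p • N (N w) + r • N w + t • w) ∧
      ∀ l : F, ((1 - r * K) • LinearMap.id + K • (N ∘ₗ N - p • N)) ∘ₗ ((1 - r * K) • LinearMap.id + K • (N ∘ₗ N - p • N)) ≠
        l • LinearMap.id := by
  have chooseC : ∀ p r t K : F, K ≠ 0 → (t = 0 → r * K ≠ 1) →
      ∃ C : F, C ≠ 0 ∧ C * t * K - r * K + 1 ≠ 0 ∧ C ≠ K * (p + t * K) := by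
    intro p r t K hK ht
    obtain ⟨C, h1, h2, h3⟩ := exists_avoid_three hF 0 ((r * K - 1) / (t * K)) (K * (p + t * K))
    refine ⟨C, h1, fun h => ?_, h3⟩
    rcases eq_or_ne t 0 with rfl | ht0
    · exact ht rfl (by linear_combination -h)
    · exact h2 (by field_simp; linear_combination h)
  have indep₁ : ∀ b c : F, (∀ w, b • N w + c • w = 0) → b = 0 ∧ c = 0 := by
    intro b c h
    have hb : b = 0 := by
      by_contra hb
      refine hns (-(c / b)) (LinearMap.ext fun w => ?_)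
      have := congrArg (fun z => b⁻¹ • z) (h w)
      simp only [smul_add, smul_smul, inv_mul_cancel₀ hb, one_smul, smul_zero] at this
      rw [LinearMap.smul_apply, LinearMap.id_apply, eq_neg_of_add_eq_zero_left this, div_eq_inv_mul, neg_smul]
    refine ⟨hb, ?_⟩
    obtain ⟨w, hw⟩ : ∃ w : W, w ≠ 0 := by
      have : Nontrivial W := Module.nontrivial_of_finrank_pos (R := F) (by rw [hdim]; norm_num)
      exact exists_ne 0
    have := h w
    rw [hb, zero_smul, zero_add] at this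
    exact (smul_eq_zero.1 this).resolve_right hw
  by_cases hquad : ∃ P R : F, ∀ w, N (N w) = P • N w + R • w
  · obtain ⟨P, R, hN⟩ := hquad
    obtain ⟨z, hz, hzp⟩ := exists_nonroot hF (P * R) (2 * R - P * P) (-(3 * P)) (-2) (neg_ne_zero.2 h2)
    obtain ⟨K, hK, hKR⟩ := exists_nonroot hF 0 0 (-R) 1 one_ne_zero
    set τ := z / K with hτd
    have hzτ : z = τ * K := by rw [hτd, div_mul_cancel₀ _ hK]
    have hz2 : 2 + P * z ≠ 0 := fun h => hzp (by linear_combination (R * z ^ 2 - P * z - 1) * h)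
    have hz3 : R * z ^ 2 - P * z - 1 ≠ 0 := fun h => hzp (by linear_combination (2 + P * z) * h)
    obtain ⟨C, hC, hD, hC'⟩ := chooseC (P + τ) (R - P * τ) (-(τ * R)) K hK fun h0 => by
      rcases mul_eq_zero.1 (neg_eq_zero.1 h0) with h | h
      · exact absurd (by rw [hzτ, h, zero_mul]) hz
      · intro h1
        refine hz3 ?_
        rw [h, hzτ] at *
        linear_combination h1
    refine ⟨P + τ, R - P * τ, -(τ * R), K, C, hC, hK, hD, fun h => ?_, hC', fun w => ?_, fun l hl => ?_⟩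
    · have : (R * z ^ 2 - P * z - 1) * (R * K - 1) = 0 := by rw [hzτ]; linear_combination h
      exact hKR (by linear_combination -((mul_eq_zero.1 this).resolve_left hz3))
    · rw [hN, hN w]
      module
    · have h := fun w => LinearMap.congr_fun hl w
      simp only [LinearMap.comp_apply, LinearMap.add_apply, LinearMap.sub_apply, LinearMap.smul_apply, LinearMap.id_apply,
        map_add, map_sub, map_smul, hN] at h
      obtain ⟨e1, -⟩ := indep₁ (-(z * (2 + P * z))) ((1 + P * z) ^ 2 + z ^ 2 * R - l) fun w => by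
        have := h w
        rw [hzτ]
        linear_combination (norm := module) this
      exact mul_ne_zero hz hz2 (neg_eq_zero.1 e1)
  · -- cubic
    set χ := N.charpoly with hχ
    have hdeg : χ.natDegree = 3 := by rw [hχ, LinearMap.charpoly_natDegree, hdim]
    set p := -χ.coeff 2
    set r := -χ.coeff 1
    set t := -χ.coeff 0
    have hcub : ∀ w, N (N (N w)) = p • N (N w) + r • N w + t • w := fun w => by
      have h := LinearMap.congr_fun (LinearMap.aeval_self_charpoly N) w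
      rw [← hχ, Polynomial.aeval_eq_sum_range, hdeg] at h
      have h3 : χ.coeff 3 = 1 := by
        rw [← hdeg]; exact (LinearMap.charpoly_monic N).coeff_natDegree
      simp only [Finset.sum_range_succ, Finset.sum_range_zero, zero_add, h3, one_smul, pow_zero, pow_one, pow_succ,
        one_mul, LinearMap.add_apply, LinearMap.smul_apply, Module.End.mul_apply, Module.End.one_apply,
        LinearMap.zero_apply] at h
      simp only [p, r, t]
      linear_combination (norm := module) h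
    have indep₂ : ∀ a b c : F, (∀ w, a • N (N w) + b • N w + c • w = 0) → a = 0 ∧ b = 0 ∧ c = 0 := by
      intro a b c h
      have ha : a = 0 := by
        by_contra ha
        refine hquad ⟨-(b / a), -(c / a), fun w => ?_⟩
        have := congrArg (fun z => a⁻¹ • z) (h w)
        simp only [smul_add, smul_smul, inv_mul_cancel₀ ha, one_smul, smul_zero] at this
        linear_combination (norm := module) this
      exact ⟨ha, indep₁ b c fun w => by have := h w; rwa [ha, zero_smul, zero_add] at this⟩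
    obtain ⟨K, hK, hψ, hKr⟩ : ∃ K : F, K ≠ 0 ∧ t ^ 2 * K ^ 3 + p * t * K ^ 2 - r * K + 1 ≠ 0 ∧
        (t = 0 → r * K ≠ 1 ∧ r * K ≠ 2) := by
      rcases eq_or_ne t 0 with ht | ht
      · obtain ⟨K, hK, hKp⟩ := exists_nonroot hF 0 (r * r) (-(3 * r)) 2 h2
        have h1 : r * K ≠ 1 := fun h => hKp (by linear_combination (r * K - 2) * h)
        refine ⟨K, hK, fun h => h1 ?_, fun _ => ⟨h1, fun h => hKp (by linear_combination (r * K - 1) * h)⟩⟩
        rw [ht] at h
        linear_combination -h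
      · obtain ⟨K, hK, hKp⟩ := exists_nonroot hF (t ^ 2) (p * t) (-r) 1 one_ne_zero
        exact ⟨K, hK, fun h => hKp (by linear_combination h), fun h => absurd h ht⟩
    obtain ⟨C, hC, hD, hC'⟩ := chooseC p r t K hK fun h => (hKr h).1
    refine ⟨p, r, t, K, C, hC, hK, hD, hψ, hC', hcub, fun l hl => ?_⟩
    have h := fun w => LinearMap.congr_fun hl w
    simp only [LinearMap.comp_apply, LinearMap.add_apply, LinearMap.sub_apply, LinearMap.smul_apply, LinearMap.id_apply,
      map_add, map_sub, map_smul, hcub] at h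
    obtain ⟨e1, e2, -⟩ := indep₂ (K * (2 - r * K)) (-(p * K * (2 - r * K)) + K ^ 2 * t)
      ((1 - r * K) ^ 2 - p * t * K ^ 2 - l) fun w => by
        linear_combination (norm := module) h w
    have hr2 : r * K = 2 := by linear_combination -((mul_eq_zero.1 e1).resolve_left hK)
    have ht : t = 0 := by
      have h0 : K ^ 2 * t = 0 := by linear_combination e2 + p * e1
      exact (mul_eq_zero.1 h0).resolve_left (pow_ne_zero 2 hK)
    exact (hKr ht).2 hr2

namespace Over

/-- the pairing of the conjugate of the group of `u` with the group of `v` -/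
noncomputable def cmap (hO : Over Q ω B ι X) (g : V ≃ₗ[F] V) (u v : U) : W →ₗ[F] W :=
  hO.pi u ∘ₗ (g⁻¹ : V ≃ₗ[F] V).toLinearMap ∘ₗ ι v

/-- the pairing in the other direction -/
noncomputable def amap (hO : Over Q ω B ι X) (g : V ≃ₗ[F] V) (u v : U) : W →ₗ[F] W :=
  hO.pi v ∘ₗ g.toLinearMap ∘ₗ ι u

theorem cmap_apply (hO : Over Q ω B ι X) (g : V ≃ₗ[F] V) (u v : U) (w : W) :
    hO.cmap g u v w = hO.pi u (g⁻¹ (ι v w)) := rfl

theorem amap_apply (hO : Over Q ω B ι X) (g : V ≃ₗ[F] V) (u v : U) (w : W) :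
    hO.amap g u v w = hO.pi v (g (ι u w)) := rfl

variable {g : V ≃ₗ[F] V}

theorem pS_cmap (hO : Over Q ω B ι X) (hg : g ∈ X) (u v : U) (a w : W) :
    pS Q a (hO.cmap g u v w) = B (g (ι u a)) (ι v w) := by
  rw [hO.cmap_apply, hO.pS_pi]
  conv_rhs => rw [← Alt.apply_inv_self g (ι v w)]
  exact ((hO.iso g hg) _ _).symm

theorem pS_amap (hO : Over Q ω B ι X) (hg : g ∈ X) (u v : U) (a w : W) :
    pS Q (hO.amap g u v a) w = -pS Q (hO.cmap g u v w) a := by
  rw [pS_symm (hO.cmap g u v w) a, hO.pS_cmap hg, pS_symm, hO.amap_apply, hO.pS_pi, Alt.neg' hO.alt (g (ι u a)) (ι v w)]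

theorem pS_nmap (hO : Over Q ω B ι X) (hg : g ∈ X) (u v : U) (a b : W) :
    pS Q (hO.amap g u v (hO.cmap g u v a)) b = -pS Q (hO.cmap g u v b) (hO.cmap g u v a) :=
  hO.pS_amap hg u v _ b

/-- the element of the conjugate of the group of `u` -/
theorem exists_low (hO : Over Q ω B ι X) (hg : g ∈ X) (u : U) (b : F) :
    ∃ x ∈ X, ∀ z, x z = z + b • g (ι u (hO.pi u (g⁻¹ z))) := by
  obtain ⟨x, hx, hxe⟩ := hO.mem_id u b
  refine ⟨g * x * g⁻¹, mul_mem (mul_mem hg hx) (inv_mem hg), fun z => ?_⟩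
  rw [LinearEquiv.mul_apply, LinearEquiv.mul_apply, hxe, map_add, Alt.apply_inv_self, LinearMap.smul_apply,
    LinearMap.id_apply, map_smul, map_smul]

/-- a non-scalar meeting operator gives everything -/
theorem done_of_nonscalar (hO : Over Q ω B ι X) (hg : g ∈ X) {u v : U} (hv : v ≠ 0)
    (hns : ∀ c : F, hO.amap g u v ∘ₗ hO.cmap g u v ≠ c • LinearMap.id) : ∀ z, z ∈ centres hO.alt X := by
  set N := hO.amap g u v ∘ₗ hO.cmap g u v with hN
  have hNsym : ∀ a b, pS Q (N a) b = pS Q a (N b) := fun a b => by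
    rw [pS_symm a (N b)]
    show pS Q (hO.amap g u v _) b = pS Q (hO.amap g u v _) a
    rw [hO.pS_nmap hg, hO.pS_nmap hg, pS_symm]
  obtain ⟨p, r, t, K, C, hC, hK, hD, hψ, hC', hcub, hδ⟩ := exists_params hO.card hO.dim hO.two N hns
  set D := C * t * K - r * K + 1 with hDd
  set δ₀ := (1 - r * K) • LinearMap.id + K • (N ∘ₗ N - p • N) with hδ₀
  have hup : ∀ c : F, ∃ x ∈ X, ∀ a b : W, x (ι v a + g (ι u (hO.cmap g u v b))) =
      ι v (a + c • N b) + g (ι u (hO.cmap g u v b)) := fun c => by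
    obtain ⟨x, hx, hxe⟩ := hO.mem_id v c
    refine ⟨x, hx, fun a b => ?_⟩
    rw [hxe, map_add (hO.pi v), hO.pi_iota_self, zero_add, ← hO.amap_apply, map_add (ι v), LinearMap.smul_apply,
      LinearMap.id_apply]
    show _ + ι v (c • N b) = _
    abel
  have hlow : ∀ c : F, ∃ x ∈ X, ∀ a b : W, x (ι v a + g (ι u (hO.cmap g u v b))) =
      ι v a + g (ι u (hO.cmap g u v (b + c • a))) := fun c => by
    obtain ⟨x, hx, hxe⟩ := hO.exists_low hg u c
    refine ⟨x, hx, fun a b => ?_⟩
    rw [hxe, map_add (g⁻¹ : V ≃ₗ[F] V), Alt.inv_apply_self, map_add (hO.pi u), hO.pi_iota_self, add_zero,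
      ← hO.cmap_apply, map_add (hO.cmap g u v), map_smul, map_add (ι u), map_smul, map_add g, map_smul g]
    abel
  set E := C - K * (p + t * K) with hEd
  set f := C / E with hfd
  set S := t * K * C / D with hSd
  set h := S - f with hhd
  have hCd : E ≠ 0 := sub_ne_zero.2 hC'
  have hf0 : f ≠ 0 := div_ne_zero hC hCd
  have hh0 : h ≠ 0 := fun h0 => hψ (by
    rw [hhd, hSd, hfd, div_sub_div _ _ hD hCd, div_eq_zero_iff, or_iff_left (mul_ne_zero hD hCd)] at h0
    have h1 : t * K * E - D = 0 := mul_left_cancel₀ hC (by linear_combination h0)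
    rw [hDd, hEd] at h1
    linear_combination -h1)
  obtain ⟨x₁, hx₁, e₁⟩ := hlow h
  obtain ⟨x₂, hx₂, e₂⟩ := hup (E / D / h)
  obtain ⟨x₃, hx₃, e₃⟩ := hlow f
  obtain ⟨x₄, hx₄, e₄⟩ := hup (K / C)
  obtain ⟨x₅, hx₅, e₅⟩ := hlow (-1)
  obtain ⟨x₆, hx₆, e₆⟩ := hup C
  obtain ⟨x₇, hx₇, e₇⟩ := hlow 1
  set m := x₇ * x₆ * x₅ * x₄ * x₃ * x₂ * x₁
  have hmX : m ∈ X := mul_mem (mul_mem (mul_mem (mul_mem (mul_mem (mul_mem hx₇ hx₆) hx₅) hx₄) hx₃) hx₂) hx₁
  have hm : ∀ w, m (ι v w) = ι v ((D⁻¹ • δ₀) w) := fun w => by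
    have start : ι v w = ι v w + g (ι u (hO.cmap g u v 0)) := by simp
    rw [start]
    simp only [m, LinearEquiv.mul_apply, e₁, e₂, e₃, e₄, e₅, e₆, e₇]
    have hy : ∀ (a b : W), b = 0 → a = (D⁻¹ • δ₀) w → ι v a + g (ι u (hO.cmap g u v b)) = ι v ((D⁻¹ • δ₀) w) := by
      rintro a b rfl rfl
      simp
    apply hy
    · simp only [map_add, map_smul, zero_add, hcub, smul_add, smul_smul]
      clear_value h D E
      match_scalars <;> field_simp <;> simp only [hhd, hSd, hfd] <;> field_simp <;> simp only [hDd, hEd] <;> ring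
    · simp only [map_add, map_smul, zero_add, hcub, smul_add, smul_smul, hδ₀, LinearMap.smul_apply, LinearMap.add_apply,
        LinearMap.sub_apply, LinearMap.comp_apply, LinearMap.id_apply, smul_sub]
      clear_value h D E
      match_scalars <;> field_simp <;> simp only [hhd, hSd, hfd] <;> field_simp <;> simp only [hDd, hEd] <;> ring
  have hδsym : ∀ a b, pS Q ((D⁻¹ • δ₀) a) b = pS Q a ((D⁻¹ • δ₀) b) := fun a b => by
    simp only [hδ₀, LinearMap.smul_apply, LinearMap.add_apply, LinearMap.sub_apply, LinearMap.comp_apply, LinearMap.id_apply,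
      map_smul, map_add, map_sub, smul_eq_mul, hNsym a b, hNsym (N a) b, hNsym a (N b)]
  have hmem := hO.mem_conj hmX hm hδsym (hO.mem_id v (1 : F))
  refine hO.done_of_mem hv (fun a b => ?_) (fun c hc => ?_) hmem
  · simp only [one_smul, LinearMap.comp_apply, LinearMap.id_apply]
    rw [hδsym, hδsym]
  · refine hδ (c * D ^ 2) (LinearMap.ext fun w => ?_)
    have h1 := LinearMap.congr_fun hc w
    simp only [one_smul, LinearMap.comp_apply, LinearMap.id_apply, LinearMap.smul_apply, map_smul, smul_smul] at h1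
    have h2 := congrArg (fun z => (D * D) • z) h1
    simp only [smul_smul] at h2
    rw [show D * D * (D⁻¹ * D⁻¹) = 1 by field_simp, one_smul] at h2
    rw [LinearMap.comp_apply, h2, LinearMap.smul_apply, LinearMap.id_apply]
    congr 1
    ring

/-- the element `z ↦ z + B(a,z) b + B(b,z) a` is in the group -/
def Cross (_hO : Over Q ω B ι X) (a b : V) : Prop := ∃ x ∈ X, ∀ z, x z = z + B a z • b + B b z • a

theorem cross_map (hO : Over Q ω B ι X) {a b : V} (h : hO.Cross a b) {k : V ≃ₗ[F] V} (hk : k ∈ X) :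
    hO.Cross (k a) (k b) := by
  obtain ⟨x, hx, hxe⟩ := h
  refine ⟨k * x * k⁻¹, mul_mem (mul_mem hk hx) (inv_mem hk), fun z => ?_⟩
  have e : ∀ c, B (k c) z = B c (k⁻¹ z) := fun c => by
    conv_lhs => rw [← Alt.apply_inv_self k z]
    exact hO.iso k hk _ _
  rw [LinearEquiv.mul_apply, LinearEquiv.mul_apply, hxe, map_add, map_add, map_smul, map_smul, Alt.apply_inv_self, e, e]

theorem cross_sub (hO : Over Q ω B ι X) {a b b' : V} (h : hO.Cross a b) (h' : hO.Cross a b') (e1 : B a b = 0)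
    (e2 : B a b' = 0) (e3 : B b b' = 0) : hO.Cross a (b - b') := by
  obtain ⟨x, hx, hxe⟩ := h
  obtain ⟨y, hy, hye⟩ := h'
  have e4 : B b a = 0 := by rw [Alt.neg' hO.alt a b, e1, neg_zero]
  have e5 : B b' a = 0 := by rw [Alt.neg' hO.alt a b', e2, neg_zero]
  have hinv : ∀ z, y⁻¹ z = z - B a z • b' - B b' z • a := fun z => y.injective (by
    rw [Alt.apply_inv_self, hye]
    simp [hO.alt a, hO.alt b', e2, e5]
    abel)
  refine ⟨x * y⁻¹, mul_mem hx (inv_mem hy), fun z => ?_⟩
  rw [LinearEquiv.mul_apply, hinv, hxe]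
  simp [hO.alt a, e1, e2, e3, e4]
  module

theorem dy_ne_scalar (hO : Over Q ω B ι X) {a b : W} (ha : a ≠ 0) (hb : b ≠ 0) (c : F) : dy Q a b ≠ c • LinearMap.id := by
  intro h
  obtain ⟨n, hn, han, hbn⟩ := hO.exists_perp_two a b
  have h0 := LinearMap.congr_fun h n
  rw [dy_apply, han, hbn, zero_smul, zero_smul, add_zero, LinearMap.smul_apply, LinearMap.id_apply, eq_comm, smul_eq_zero,
    or_iff_left hn] at h0
  rw [h0, zero_smul] at h
  obtain ⟨x, hx⟩ := hO.exists_one hb
  have h1 := LinearMap.congr_fun h x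
  rw [dy_apply, hx, one_smul, LinearMap.zero_apply, add_comm, add_eq_zero_iff_eq_neg] at h1
  set l := pS Q a x
  have h2 := LinearMap.congr_fun h x
  rw [dy_apply, LinearMap.zero_apply] at h2
  have hl : l ≠ 0 := fun h' => ha (by rw [h1, h', zero_smul, neg_zero])
  have h3 : pS Q a x = -(l * pS Q b x) := by
    conv_lhs => rw [h1]
    simp
  rw [hx, mul_one] at h3
  exact mul_ne_zero hO.two hl (by linear_combination h3)

theorem dy_sym (a b x y : W) : pS Q (dy Q a b x) y = pS Q x (dy Q a b y) := by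
  simp [dy_apply, pS_symm x a, pS_symm x b]
  ring

set_option maxHeartbeats 800000 in
/-- a zero meeting operator with non-zero pairing gives everything -/
theorem done_of_null (hO : Over Q ω B ι X) (hg : g ∈ X) {u v : U} (hu : u ≠ 0) (hv : v ≠ 0)
    (h0 : hO.amap g u v ∘ₗ hO.cmap g u v = 0) (hne : hO.cmap g u v ≠ 0) : ∀ z, z ∈ centres hO.alt X := by
  have two := hO.two
  set Cm := hO.cmap g u v
  have horth : ∀ a b, pS Q (Cm a) (Cm b) = 0 := fun a b => by
    have := hO.pS_nmap hg u v b a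
    rw [show hO.amap g u v (Cm b) = 0 from LinearMap.congr_fun h0 b, map_zero, LinearMap.zero_apply, eq_comm,
      neg_eq_zero] at this
    exact this
  obtain ⟨w₁, hw₁⟩ : ∃ w₁, Cm w₁ ≠ 0 := not_forall.1 fun h => hne (LinearMap.ext h)
  set σ := Cm w₁ with hσ
  have hQσ : Q σ = 0 := (mul_eq_zero.1 (by rw [← pS_self]; exact horth _ _)).resolve_left two
  obtain ⟨t, hσt, hQt⟩ := hO.exists_partner hw₁ hQσ
  have hline : ∀ a, Cm a = pS Q t (Cm a) • σ := fun a => by
    set y := Cm a - pS Q t (Cm a) • σ with hy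
    have hσσ : pS Q σ σ = 0 := by rw [pS_self, hQσ, mul_zero]
    have y1 : pS Q σ y = 0 := by rw [hy, map_sub, map_smul, hσσ, horth, smul_zero, sub_zero]
    have y2 : pS Q t y = 0 := by
      rw [hy, map_sub, map_smul, pS_symm t σ, hσt, smul_eq_mul, mul_one, sub_self]
    have y3 : Q y = 0 := by
      rw [hy, sub_eq_add_neg, ← neg_smul, q_add, q_smul, hQσ, map_smul, horth, smul_zero,
        (mul_eq_zero.1 (by rw [← pS_self]; exact horth a a : (2 : F) * Q (Cm a) = 0)).resolve_left two]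
      simp
    refine sub_eq_zero.1 (by_contra fun hy0 => ?_)
    have ha : Q (σ + t) ≠ 0 := by simp [q_add, hQσ, hQt, hσt]
    have hb : Q (σ - t) ≠ 0 := by simp [sub_eq_add_neg, q_add, QuadraticMap.map_neg, hQσ, hQt, hσt]
    exact hO.third_ne ha hb (by simp [pS_self, hQσ, hQt, hσt, pS_symm t σ]) hy0
      (by rw [map_add, LinearMap.add_apply, y1, y2, add_zero]) (by rw [map_sub (pS Q), LinearMap.sub_apply, y1, y2, sub_zero]) y3
  set w₀ := -(hO.amap g u v t) with hw₀
  have hlin : ∀ a, Cm a = pS Q w₀ a • σ := fun a => by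
    rw [hline a, hw₀, map_neg, LinearMap.neg_apply, hO.pS_amap hg, neg_neg, pS_symm t (Cm a)]
  have hw₀0 : w₀ ≠ 0 := fun h => hw₁ (by rw [hσ, hlin, h, map_zero, LinearMap.zero_apply, zero_smul])
  set s₀ := g (ι u σ) with hs₀
  set e := ι v w₀ with he
  have hps₀ : hO.pi v s₀ = 0 := hO.wext fun a => by
    rw [map_zero, ← hO.amap_apply, pS_symm, hO.pS_amap hg, hlin a, map_smul, LinearMap.smul_apply, pS_self, hQσ, mul_zero,
      smul_zero, neg_zero]
  have hes : B e s₀ = 0 := by rw [he, ← hO.pS_pi, hps₀, map_zero]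
  have hse : B s₀ e = 0 := by rw [Alt.neg' hO.alt e s₀, hes, neg_zero]
  have hpe : hO.pi v e = 0 := hO.pi_iota_self v w₀
  -- the products
  obtain ⟨mv, hmv, hmve⟩ := hO.mem_id v (1 : F)
  simp only [one_smul, LinearMap.id_apply] at hmve
  have hq : ∀ b : F, ∃ x ∈ X, ∀ z, x z = z + b • (B s₀ z • e + B e z • s₀) + (b * b * (2 * Q w₀) * B s₀ z) • s₀ := by
    intro b
    obtain ⟨x, hx, hxe⟩ := hO.exists_low hg u b
    have hxv : ∀ w, x (ι v w) = ι v w + (b * pS Q w₀ w) • s₀ := fun w => by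
      rw [hxe, ← hO.cmap_apply, hlin w, map_smul (ι u), map_smul g, smul_smul, hs₀]
    refine ⟨x * mv * x⁻¹ * mv⁻¹, mul_mem (mul_mem (mul_mem hx hmv) (inv_mem hx)) (inv_mem hmv), fun z => ?_⟩
    set z' := mv⁻¹ z with hz'
    have hz : z = z' + ι v (hO.pi v z') := by rw [← hmve, hz', Alt.apply_inv_self]
    have hpz : hO.pi v z = hO.pi v z' := by rw [hz, map_add, hO.pi_iota_self, add_zero]
    have k1 : B s₀ z = B s₀ z' := by
      rw [hz, map_add, Alt.neg' hO.alt (ι v _) s₀, ← hO.pS_pi, hps₀, map_zero, neg_zero, add_zero]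
    have k2 : B e z = pS Q w₀ (hO.pi v z') := by rw [he, ← hO.pS_pi, hpz]
    have k3 : hO.pi v (x⁻¹ z') = hO.pi v z' + (b * B s₀ z') • w₀ := hO.wext fun a => by
      rw [hO.pS_pi, map_add, map_smul, hO.pS_pi, smul_eq_mul]
      have h1 : B (ι v a) (x⁻¹ z') = B (x (ι v a)) z' := by
        conv_rhs => rw [← Alt.apply_inv_self x z']
        exact ((hO.iso x hx) _ _).symm
      rw [h1, hxv, map_add, LinearMap.add_apply, map_smul, LinearMap.smul_apply, smul_eq_mul, pS_symm w₀ a]
      ring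
    rw [LinearEquiv.mul_apply, LinearEquiv.mul_apply, LinearEquiv.mul_apply, ← hz', hmve, map_add x, Alt.apply_inv_self,
      k3, hxv, map_add, map_add, map_smul, map_smul, pS_self, k1, k2, he]
    conv_rhs => rw [hz]
    simp only [smul_eq_mul]
    module
  by_cases hQw : Q w₀ = 0
  swap
  · obtain ⟨x, hx, hxe⟩ := hq 1
    obtain ⟨y, hy, hye⟩ := hq (-1)
    have key : x * y = Alt.tv hO.alt s₀ (-(4 * Q w₀)) := LinearEquiv.ext fun z => by
      rw [LinearEquiv.mul_apply, hye, hxe, Alt.tv_apply]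
      simp only [map_add, map_smul, hO.alt s₀, hO.alt e, hse, hes, smul_eq_mul, mul_zero, add_zero, zero_add, zero_smul,
        Alt.neg' hO.alt s₀ z]
      module
    have h1 : g⁻¹ * Alt.tv hO.alt s₀ (-(4 * Q w₀)) * g⁻¹⁻¹ ∈ X :=
      mul_mem (mul_mem (inv_mem hg) (key ▸ mul_mem hx hy)) (inv_mem (inv_mem hg))
    rw [Alt.conj_tv hO.alt (inv_mem (hO.iso g hg)), hs₀, Alt.inv_apply_self] at h1
    have h4 : (4 : F) ≠ 0 := by rw [show (4 : F) = 2 * 2 by norm_num]; exact mul_ne_zero two two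
    have hm : hO.Mem u ((2 * Q w₀) • dy Q σ σ) := ⟨_, h1, fun z => by
      rw [Alt.tv_apply, LinearMap.smul_apply, dy_apply, hO.pS_pi, Alt.neg' hO.alt (ι u σ) z]
      simp only [map_smul, map_add]
      module⟩
    have hm' := hO.mem_smul hm (2 * Q w₀)⁻¹
    rw [inv_smul_smul₀ (mul_ne_zero two hQw)] at hm'
    exact hO.done_of_centre hu hw₁ hQσ (hO.centre_of_sq hm')
  have hcr : hO.Cross s₀ e := by
    obtain ⟨x, hx, hxe⟩ := hq 1
    exact ⟨x, hx, fun z => by rw [hxe, hQw]; module⟩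
  by_cases hsup : ∀ u', ω u' v = 0 → hO.pi u' s₀ = 0
  · obtain ⟨v', hv'⟩ : ∃ v', ω v v' = 1 := by
      obtain ⟨y, hy⟩ := not_forall.1 fun h => hv (hO.wnd.1 v h)
      exact ⟨(ω v y)⁻¹ • y, by rw [map_smul, smul_eq_mul, inv_mul_cancel₀ hy]⟩
    set y₀ := -(hO.pi v' s₀) with hy₀
    have hs : s₀ = ι v y₀ := hO.vext fun u' w => by
      rw [← hO.pS_pi, ← hO.pS_pi]
      congr 1
      have h1 := hsup (u' - ω v u' • v') (by
        rw [map_sub, map_smul, LinearMap.sub_apply, LinearMap.smul_apply, Alt.neg' hO.walt v u', Alt.neg' hO.walt v v', hv']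
        simp)
      rw [sub_eq_add_neg, ← neg_smul, hO.pi_add, hO.pi_smul, neg_smul, ← sub_eq_add_neg, sub_eq_zero] at h1
      rw [h1, hO.pi_iota, Alt.neg' hO.walt v u', hy₀, smul_neg, neg_smul, neg_neg]
    have hy0 : y₀ ≠ 0 := fun h => by
      rw [h, map_zero] at hs
      have h1 : ι u σ = 0 := g.map_eq_zero_iff.1 hs
      obtain ⟨u₂, hu₂⟩ := not_forall.1 fun hh => hu (hO.wnd.1 u hh)
      have h2 := congrArg (hO.pi u₂) h1
      rw [hO.pi_iota, map_zero, Alt.neg' hO.walt u u₂, smul_eq_zero, neg_eq_zero] at h2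
      exact h2.elim hu₂ hw₁
    obtain ⟨x, hx, hxe⟩ := hcr
    refine hO.done_of_mem hv (dy_sym y₀ w₀) (hO.dy_ne_scalar hy0 hw₀0) ⟨x, hx, fun z => ?_⟩
    rw [hxe, hs, he, dy_apply, hO.pS_pi, hO.pS_pi]
    simp only [map_add, map_smul]
    abel
  push Not at hsup
  obtain ⟨u', hu'v, hp⟩ := hsup
  have hvu' : ω v u' = 0 := by rw [Alt.neg' hO.walt u' v, hu'v, neg_zero]
  set p := hO.pi u' s₀ with hpd
  set e' := ι u' p with he'
  obtain ⟨m', hm', hm'e⟩ := hO.mem_id u' (1 : F)
  simp only [one_smul, LinearMap.id_apply] at hm'e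
  have m's : m' s₀ = s₀ + e' := hm'e s₀
  have m'f : m' e = e := by rw [hm'e, he, hO.pi_iota, hu'v, zero_smul, map_zero, add_zero]
  have he'e : B e' e = 0 := by rw [he', he, hO.form, hu'v, zero_mul]
  have hee' : B e e' = 0 := by rw [Alt.neg' hO.alt e' e, he'e, neg_zero]
  have he's : B e' s₀ = 2 * Q p := by rw [he', ← hO.pS_pi, ← hpd, pS_self]
  have he'' : B s₀ e' = -(2 * Q p) := by rw [Alt.neg' hO.alt e' s₀, he's]
  by_cases hQp : Q p = 0
  swap
  · obtain ⟨a, ha, hae⟩ := hq 1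
    obtain ⟨a', ha', hae'⟩ := hq (-1)
    have hsc : ∀ (c : V), B c e = 0 → ∀ z, B (m' c) z = B c (m'⁻¹ z) := fun c _ z => by
      conv_lhs => rw [← Alt.apply_inv_self m' z]
      exact hO.iso m' hm' _ _
    have hk : ∀ (x : V ≃ₗ[F] V) (b : F), (∀ z, x z = z + b • (B s₀ z • e + B e z • s₀) +
        (b * b * (2 * Q w₀) * B s₀ z) • s₀) → ∀ z, (m' * x * m'⁻¹) z = z + b • ((B s₀ z + B e' z) • e + B e z • (s₀ + e')) := by
      intro x b hxe z
      rw [LinearEquiv.mul_apply, LinearEquiv.mul_apply, hxe, hQw, map_add, map_add, map_smul, map_add, map_smul, map_smul,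
        m's, m'f, Alt.apply_inv_self, ← hsc s₀ hse z, ← hsc e (hO.alt e) z, m's, m'f]
      simp
    have hprod : m' * a * m'⁻¹ * a' * (m' * a' * m'⁻¹ * a) ∈ X :=
      mul_mem (mul_mem (mul_mem (mul_mem hm' ha) (inv_mem hm')) ha') (mul_mem (mul_mem (mul_mem hm' ha') (inv_mem hm')) ha)
    have key : hO.Mem v ((-(2 * Q p)) • dy Q w₀ w₀) := ⟨_, hprod, fun z => by
      rw [LinearEquiv.mul_apply, LinearEquiv.mul_apply, LinearEquiv.mul_apply _ _ z, hk a 1 hae, hk a' (-1) hae', hae, hae',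
        hQw, LinearMap.smul_apply, dy_apply, hO.pS_pi, ← he]
      simp only [map_smul, map_add, hO.alt s₀, hO.alt e, hO.alt e', hse, hes, he'e, hee', he's, he'', smul_eq_mul]
      module⟩
    have hm2 := hO.mem_smul key (-(2 * Q p))⁻¹
    rw [inv_smul_smul₀ (neg_ne_zero.2 (mul_ne_zero two hQp))] at hm2
    exact hO.done_of_centre hv hw₀0 hQw (hO.centre_of_sq hm2)
  -- two pure centres
  have hK : hO.Cross e' e := by
    obtain ⟨x, hx, hxe⟩ := hO.cross_map hcr hm'
    rw [m's, m'f] at hxe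
    obtain ⟨y, hy, hye⟩ := hcr
    refine ⟨x * y⁻¹, mul_mem hx (inv_mem hy), fun z => ?_⟩
    set z' := y⁻¹ z with hz'
    have hz : z = z' + B s₀ z' • e + B e z' • s₀ := by rw [← hye, hz', Alt.apply_inv_self]
    rw [LinearEquiv.mul_apply, ← hz', hxe]
    conv_rhs => rw [hz]
    simp only [map_add, map_smul, LinearMap.add_apply, hO.alt e, hes, he'e, he's, hQp, smul_eq_mul, mul_zero, add_zero]
    module
  have hu'span : u' ∉ Submodule.span F {v} := fun h => hp (by
    obtain ⟨c, rfl⟩ := Submodule.mem_span_singleton.1 h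
    rw [hpd, hO.pi_smul, hps₀, smul_zero])
  obtain ⟨v₂, hv₂v, hv₂u'⟩ : ∃ v₂, ω v v₂ = 1 ∧ ω u' v₂ = 0 := by
    have hvs : v ∉ Submodule.span F {u'} := fun h => hu'span (by
      obtain ⟨c, hc⟩ := Submodule.mem_span_singleton.1 h
      rcases eq_or_ne c 0 with rfl | hc0
      · exact absurd (by rw [← hc, zero_smul]) hv
      · exact Submodule.mem_span_singleton.2 ⟨c⁻¹, by rw [← hc, smul_smul, inv_mul_cancel₀ hc0, one_smul]⟩)
    obtain ⟨φ, hφ, hle⟩ := (Submodule.span F {u'}).exists_le_ker_of_notMem hvs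
    obtain ⟨y, -, hy⟩ := Alt.exists_repr hO.walt (Alt.ndon_top hO.wnd) ((φ v)⁻¹ • φ)
    refine ⟨y, ?_, ?_⟩
    · rw [hy v trivial, LinearMap.smul_apply, smul_eq_mul, inv_mul_cancel₀ hφ]
    · rw [hy u' trivial, LinearMap.smul_apply, LinearMap.mem_ker.1 (hle (Submodule.mem_span_singleton_self u')), smul_zero]
  have hd : ∀ y : U, ω v y = 1 → ω u' y = 0 → hO.Cross e' (ι y w₀) := by
    intro y hvy huy
    obtain ⟨my, hmy, hmye⟩ := hO.mem_id y (1 : F)
    simp only [one_smul, LinearMap.id_apply] at hmye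
    have h1 := hO.cross_map hK hmy
    have f1 : my e' = e' := by
      rw [hmye, he', hO.pi_iota, Alt.neg' hO.walt u' y, huy, neg_zero, zero_smul, map_zero, add_zero]
    have f2 : my e = e - ι y w₀ := by
      rw [hmye, he, hO.pi_iota, Alt.neg' hO.walt v y, hvy, neg_smul, one_smul]
      simp [sub_eq_add_neg]
    rw [f1, f2] at h1
    have h2 := hO.cross_sub hK h1 he'e (by rw [map_sub, he'e, he', hO.form, huy, zero_mul, sub_zero])
      (by rw [map_sub, hO.alt e, zero_sub, he, hO.form, pS_self, hQw, mul_zero, mul_zero, neg_zero])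
    rwa [sub_sub_cancel] at h2
  have h3 := hO.cross_sub (hd (v₂ + u') (by rw [map_add, hv₂v, hvu', add_zero]) (by rw [map_add, hv₂u', hO.walt u', add_zero]))
    (hd v₂ hv₂v hv₂u') (by rw [he', hO.form, map_add, hv₂u', hO.walt u']; simp) (by rw [he', hO.form, hv₂u', zero_mul])
    (by rw [hO.form, pS_self, hQw, mul_zero, mul_zero])
  rw [map_add, LinearMap.add_apply, add_sub_cancel_left] at h3
  obtain ⟨x, hx, hxe⟩ := h3
  have hu'0 : u' ≠ 0 := fun h => hu'span (h ▸ zero_mem _)
  refine hO.done_of_mem hu'0 (dy_sym p w₀) (hO.dy_ne_scalar hp hw₀0) ⟨x, hx, fun z => ?_⟩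
  rw [hxe, he', dy_apply, hO.pS_pi, hO.pS_pi]
  simp only [map_add, map_smul]
  abel

end Over

end Cfsg.Agent.ClassicalMax.SpThree
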